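import Groth.Agent.StDesc.Glue
import Groth.Prelude.Def_StMod6
import Mathlib.RingTheory.Localization.BaseChange

/-!
The property that sections over an open are obtained by base change along a morphism of objects, with
composition, faithfully flat descent, invariance under isomorphisms and transport along inverse images.
-/

set_option autoImplicit false
set_option linter.style.haveILetI false
set_option linter.unusedSectionVars false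
set_option backward.isDefEq.respectTransparency false
set_option backward.isDefEq.respectTransparency.types false

universe u

open CategoryTheory CategoryTheory.Limits AlgebraicGeometry TopologicalSpace Opposite
open scoped TensorProduct
open Groth.Agent.QCoh

noncomputable section

namespace Groth.Agent.StDesc

/-- The semilinear map underlying a comparison datum, from sections over an open to sections over an open. -/
def rawLin {X' X : Scheme.{u}} (g : X' ⟶ X) {M : X.Modules} {N : X'.Modules}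
    (m : M ⟶ (Scheme.Modules.pushforward g).obj N) (U : X.Opens) (V : X'.Opens) (h : V ≤ g ⁻¹ᵁ U) :
    letI := Module.compHom Γ(N, V) (g.appLE U V h).hom
    Γ(M, U) →ₗ[Γ(X, U)] Γ(N, V) :=
  letI := Module.compHom Γ(N, V) (g.appLE U V h).hom
  { toFun := fun s => res N h (m.app U s)
    map_add' := fun a b => (congrArg (res N h) (map_add (m.app U).hom a b)).trans (map_add (res N h).hom _ _)
    map_smul' := fun r s => by
      rw [Scheme.Modules.Hom.app_smul]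
      exact res_smul N h (g.app U r) _ }

/-- Sections over `V` are the base change of sections over `U`, for a comparison datum. -/
def BCRaw {X' X : Scheme.{u}} (g : X' ⟶ X) {M : X.Modules} {N : X'.Modules}
    (m : M ⟶ (Scheme.Modules.pushforward g).obj N) (U : X.Opens) (V : X'.Opens) (h : V ≤ g ⁻¹ᵁ U) : Prop :=
  letI := (g.appLE U V h).hom.toAlgebra
  letI := Module.compHom Γ(N, V) (g.appLE U V h).hom
  haveI : IsScalarTower Γ(X, U) Γ(X', V) Γ(N, V) := IsScalarTower.of_algebraMap_smul fun _ _ => rfl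
  IsBaseChange Γ(X', V) (rawLin g m U V h)

variable {S : Scheme.{u}} {𝒳 : AlgSt.Cat S}

/-- Sections over `V` are the base change of sections over `U` along a morphism of objects. -/
def BC (G : StMod.Mod 𝒳) {ξ' ξ : 𝒳.obj} (φ : ξ' ⟶ ξ) (U : (StMod.sch 𝒳 ξ).Opens)
    (V : (StMod.sch 𝒳 ξ').Opens) (h : V ≤ StMod.bmap 𝒳 φ ⁻¹ᵁ U) : Prop :=
  BCRaw (StMod.bmap 𝒳 φ) (G.map φ rfl) U V h

variable {G : StMod.Mod 𝒳}

theorem bc_congr {ξ' ξ : 𝒳.obj} {φ φ' : ξ' ⟶ ξ} (e : φ = φ') {U : (StMod.sch 𝒳 ξ).Opens}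
    {V : (StMod.sch 𝒳 ξ').Opens} {h : V ≤ StMod.bmap 𝒳 φ ⁻¹ᵁ U} (b : BC G φ U V h) :
    BC G φ' U V (e ▸ h) := by subst e; exact b

theorem bc_of_qcoh (hF : StMod.isQCoh 𝒳 G) {ξ' ξ : 𝒳.obj} (φ : ξ' ⟶ ξ) {U : (StMod.sch 𝒳 ξ).Opens}
    {V : (StMod.sch 𝒳 ξ').Opens} (h : V ≤ StMod.bmap 𝒳 φ ⁻¹ᵁ U) (hU : IsAffineOpen U) (hV : IsAffineOpen V) :
    BC G φ U V h := by
  haveI : (G.obj ξ).IsQuasicoherent := hF.2 ξ
  exact isBaseChange_pb hF.1 φ h hU hV _ fun _ => rfl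

section Alg

variable {ξ'' ξ' ξ : 𝒳.obj} {ψ : ξ'' ⟶ ξ'} {φ : ξ' ⟶ ξ} {U : (StMod.sch 𝒳 ξ).Opens}
  {V : (StMod.sch 𝒳 ξ').Opens} {W : (StMod.sch 𝒳 ξ'').Opens} {h : V ≤ StMod.bmap 𝒳 φ ⁻¹ᵁ U}
  {h' : W ≤ StMod.bmap 𝒳 ψ ⁻¹ᵁ V}

theorem bc_comp (b₁ : BC G φ U V h) (b₂ : BC G ψ V W h') (h'' : W ≤ StMod.bmap 𝒳 (ψ ≫ φ) ⁻¹ᵁ U) :
    BC G (ψ ≫ φ) U W h'' := by
  letI := ((StMod.bmap 𝒳 φ).appLE U V h).hom.toAlgebra
  letI := ((StMod.bmap 𝒳 ψ).appLE V W h').hom.toAlgebra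
  letI := ((StMod.bmap 𝒳 (ψ ≫ φ)).appLE U W h'').hom.toAlgebra
  letI := Module.compHom Γ(G.obj ξ', V) ((StMod.bmap 𝒳 φ).appLE U V h).hom
  letI := Module.compHom Γ(G.obj ξ'', W) ((StMod.bmap 𝒳 ψ).appLE V W h').hom
  letI := Module.compHom Γ(G.obj ξ'', W) ((StMod.bmap 𝒳 (ψ ≫ φ)).appLE U W h'').hom
  have e : ∀ r, (StMod.bmap 𝒳 ψ).appLE V W h' ((StMod.bmap 𝒳 φ).appLE U V h r) =
      (StMod.bmap 𝒳 (ψ ≫ φ)).appLE U W h'' r := appLE_comp_apply _ _ (StMod.bmap_comp ψ φ) h h' h''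
  haveI : IsScalarTower Γ(StMod.sch 𝒳 ξ, U) Γ(StMod.sch 𝒳 ξ', V) Γ(StMod.sch 𝒳 ξ'', W) :=
    IsScalarTower.of_algebraMap_eq fun r => (e r).symm
  haveI : IsScalarTower Γ(StMod.sch 𝒳 ξ, U) Γ(StMod.sch 𝒳 ξ', V) Γ(G.obj ξ', V) :=
    IsScalarTower.of_algebraMap_smul fun _ _ => rfl
  haveI : IsScalarTower Γ(StMod.sch 𝒳 ξ', V) Γ(StMod.sch 𝒳 ξ'', W) Γ(G.obj ξ'', W) :=
    IsScalarTower.of_algebraMap_smul fun _ _ => rfl
  haveI : IsScalarTower Γ(StMod.sch 𝒳 ξ, U) Γ(StMod.sch 𝒳 ξ'', W) Γ(G.obj ξ'', W) :=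
    IsScalarTower.of_algebraMap_smul fun _ _ => rfl
  haveI : IsScalarTower Γ(StMod.sch 𝒳 ξ, U) Γ(StMod.sch 𝒳 ξ', V) Γ(G.obj ξ'', W) :=
    IsScalarTower.of_algebraMap_smul fun r x => congrArg (fun s => s • x) (e r)
  have hc := IsBaseChange.comp b₁ b₂
  have : rawLin (StMod.bmap 𝒳 (ψ ≫ φ)) (G.map (ψ ≫ φ) rfl) U W h'' =
      ((rawLin (StMod.bmap 𝒳 ψ) (G.map ψ rfl) V W h').restrictScalars Γ(StMod.sch 𝒳 ξ, U)).comp
        (rawLin (StMod.bmap 𝒳 φ) (G.map φ rfl) U V h) :=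
    LinearMap.ext fun s => (pb_pb G ψ φ W h h' h'' s).symm
  show IsBaseChange _ _
  rw [this]
  exact hc

theorem bc_of_faithfullyFlat (hff : ((StMod.bmap 𝒳 ψ).appLE V W h').hom.FaithfullyFlat)
    (b₂ : BC G ψ V W h') {h'' : W ≤ StMod.bmap 𝒳 (ψ ≫ φ) ⁻¹ᵁ U} (b : BC G (ψ ≫ φ) U W h'') :
    BC G φ U V h := by
  letI := ((StMod.bmap 𝒳 φ).appLE U V h).hom.toAlgebra
  letI := ((StMod.bmap 𝒳 ψ).appLE V W h').hom.toAlgebra
  letI := ((StMod.bmap 𝒳 (ψ ≫ φ)).appLE U W h'').hom.toAlgebra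
  letI := Module.compHom Γ(G.obj ξ', V) ((StMod.bmap 𝒳 φ).appLE U V h).hom
  letI := Module.compHom Γ(G.obj ξ'', W) ((StMod.bmap 𝒳 ψ).appLE V W h').hom
  letI := Module.compHom Γ(G.obj ξ'', W) ((StMod.bmap 𝒳 (ψ ≫ φ)).appLE U W h'').hom
  have e : ∀ r, (StMod.bmap 𝒳 ψ).appLE V W h' ((StMod.bmap 𝒳 φ).appLE U V h r) =
      (StMod.bmap 𝒳 (ψ ≫ φ)).appLE U W h'' r := appLE_comp_apply _ _ (StMod.bmap_comp ψ φ) h h' h''
  haveI : IsScalarTower Γ(StMod.sch 𝒳 ξ, U) Γ(StMod.sch 𝒳 ξ', V) Γ(StMod.sch 𝒳 ξ'', W) :=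
    IsScalarTower.of_algebraMap_eq fun r => (e r).symm
  haveI : IsScalarTower Γ(StMod.sch 𝒳 ξ, U) Γ(StMod.sch 𝒳 ξ', V) Γ(G.obj ξ', V) :=
    IsScalarTower.of_algebraMap_smul fun _ _ => rfl
  haveI : IsScalarTower Γ(StMod.sch 𝒳 ξ', V) Γ(StMod.sch 𝒳 ξ'', W) Γ(G.obj ξ'', W) :=
    IsScalarTower.of_algebraMap_smul fun _ _ => rfl
  haveI : IsScalarTower Γ(StMod.sch 𝒳 ξ, U) Γ(StMod.sch 𝒳 ξ'', W) Γ(G.obj ξ'', W) :=
    IsScalarTower.of_algebraMap_smul fun _ _ => rfl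
  haveI : IsScalarTower Γ(StMod.sch 𝒳 ξ, U) Γ(StMod.sch 𝒳 ξ', V) Γ(G.obj ξ'', W) :=
    IsScalarTower.of_algebraMap_smul fun r x => congrArg (fun s => s • x) (e r)
  haveI : Module.FaithfullyFlat Γ(StMod.sch 𝒳 ξ', V) Γ(StMod.sch 𝒳 ξ'', W) :=
    RingHom.faithfullyFlat_algebraMap_iff.1 hff
  have this : rawLin (StMod.bmap 𝒳 (ψ ≫ φ)) (G.map (ψ ≫ φ) rfl) U W h'' =
      ((rawLin (StMod.bmap 𝒳 ψ) (G.map ψ rfl) V W h').restrictScalars Γ(StMod.sch 𝒳 ξ, U)).comp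
        (rawLin (StMod.bmap 𝒳 φ) (G.map φ rfl) U V h) :=
    LinearMap.ext fun s => (pb_pb G ψ φ W h h' h'' s).symm
  have hb : IsBaseChange Γ(StMod.sch 𝒳 ξ'', W) (rawLin (StMod.bmap 𝒳 (ψ ≫ φ)) (G.map (ψ ≫ φ) rfl) U W h'') := b
  rw [this] at hb
  exact isBaseChange_of_faithfullyFlat _ _ b₂ hb

end Alg

theorem bc_of_bijective {ξ' ξ : 𝒳.obj} (φ : ξ' ⟶ ξ) {U : (StMod.sch 𝒳 ξ).Opens}
    {V : (StMod.sch 𝒳 ξ').Opens} {h : V ≤ StMod.bmap 𝒳 φ ⁻¹ᵁ U}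
    (hr : Function.Bijective ((StMod.bmap 𝒳 φ).appLE U V h)) (hs : Function.Bijective (pb G φ V h)) :
    BC G φ U V h := by
  letI := ((StMod.bmap 𝒳 φ).appLE U V h).hom.toAlgebra
  letI := Module.compHom Γ(G.obj ξ', V) ((StMod.bmap 𝒳 φ).appLE U V h).hom
  haveI : IsScalarTower Γ(StMod.sch 𝒳 ξ, U) Γ(StMod.sch 𝒳 ξ', V) Γ(G.obj ξ', V) :=
    IsScalarTower.of_algebraMap_smul fun _ _ => rfl
  let f := rawLin (StMod.bmap 𝒳 φ) (G.map φ rfl) U V h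
  let a := LinearEquiv.ofBijective (Algebra.linearMap Γ(StMod.sch 𝒳 ξ, U) Γ(StMod.sch 𝒳 ξ', V)) hr
  have hb : Function.Bijective (f.liftBaseChange Γ(StMod.sch 𝒳 ξ', V)) := by
    have key : (f.liftBaseChange Γ(StMod.sch 𝒳 ξ', V) : _ → _) = f ∘
        ((TensorProduct.congr a.symm (LinearEquiv.refl _ _)) ≪≫ₗ TensorProduct.lid _ Γ(G.obj ξ, U)) := by
      funext z
      induction z using TensorProduct.induction_on with
      | zero => simp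
      | tmul b m =>
        obtain ⟨r, rfl⟩ := a.surjective b
        simp only [a, Function.comp_apply]
        simp [show (LinearEquiv.ofBijective (Algebra.linearMap Γ(StMod.sch 𝒳 ξ, U) Γ(StMod.sch 𝒳 ξ', V)) hr).symm
          (algebraMap _ _ r) = r from LinearEquiv.symm_apply_apply a r]
      | add z z' hz hz' => simp only [map_add, Function.comp_apply] at hz hz' ⊢; rw [hz, hz']
    rw [key]
    exact hs.comp (LinearEquiv.bijective _)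
  exact IsBaseChange.of_equiv (LinearEquiv.ofBijective _ hb) fun m => by simp [f]

theorem isLocalizingAt_of_bc {ξ : 𝒳.obj} {U : (StMod.sch 𝒳 ξ).Opens} (hU : IsAffineOpen U)
    (f : Γ(StMod.sch 𝒳 ξ, U)) (h : (StMod.sch 𝒳 ξ).basicOpen f ≤ StMod.bmap 𝒳 (𝟙 ξ) ⁻¹ᵁ U)
    (b : BC G (𝟙 ξ) U ((StMod.sch 𝒳 ξ).basicOpen f) h) : IsLocalizingAt (G.obj ξ) f := by
  let D := (StMod.sch 𝒳 ξ).basicOpen f
  letI := ((StMod.bmap 𝒳 (𝟙 ξ)).appLE U D h).hom.toAlgebra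
  letI := Module.compHom Γ(G.obj ξ, D) ((StMod.bmap 𝒳 (𝟙 ξ)).appLE U D h).hom
  haveI : IsScalarTower Γ(StMod.sch 𝒳 ξ, U) Γ(StMod.sch 𝒳 ξ, D) Γ(G.obj ξ, D) :=
    IsScalarTower.of_algebraMap_smul fun _ _ => rfl
  have e : ∀ r, (StMod.bmap 𝒳 (𝟙 ξ)).appLE U D h r = rres ((StMod.sch 𝒳 ξ).basicOpen_le f) r := by
    have key : ∀ {g : StMod.sch 𝒳 ξ ⟶ StMod.sch 𝒳 ξ} (hg : g = 𝟙 _) (h : D ≤ g ⁻¹ᵁ U) (r),
        g.appLE U D h r = rres ((StMod.sch 𝒳 ξ).basicOpen_le f) r := by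
      intro g hg h r; subst hg; simp [Scheme.Hom.appLE]; rfl
    exact key (StMod.bmap_id ξ) h
  haveI : IsLocalization.Away f Γ(StMod.sch 𝒳 ξ, D) := by
    have hloc := hU.isLocalization_basicOpen f
    convert hloc using 2
    exact Algebra.algebra_ext _ _ fun r => e r
  let l := rawLin (StMod.bmap 𝒳 (𝟙 ξ)) (G.map (𝟙 ξ) rfl) U D h
  haveI hl : IsLocalizedModule (Submonoid.powers f) l :=
    (isLocalizedModule_iff_isBaseChange (Submonoid.powers f) Γ(StMod.sch 𝒳 ξ, D) l).2 b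
  have hlres : ∀ t, l t = res (G.obj ξ) ((StMod.sch 𝒳 ξ).basicOpen_le f) t := fun t => pb_id G h _ t
  refine ⟨fun s => ?_, fun t ht => ?_⟩
  · obtain ⟨⟨t, ⟨_, n, rfl⟩⟩, hn⟩ := IsLocalizedModule.surj (Submonoid.powers f) l s
    refine ⟨n, t, ?_⟩
    rw [← hlres, ← hn, ← map_pow]
    show (StMod.bmap 𝒳 (𝟙 ξ)).appLE U D h (f ^ n) • s = _
    rw [e]
  · obtain ⟨⟨_, n, rfl⟩, hn⟩ := (IsLocalizedModule.eq_zero_iff (Submonoid.powers f) l).1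
      ((hlres t).trans ht)
    exact ⟨n, hn⟩

theorem bcRaw_castMap {X X' T T' : Scheme.{u}} (hX : X = T) (hX' : X' = T') {g₁ : X' ⟶ X} {g : T' ⟶ T}
    (hg : g₁ ≫ eqToHom hX = eqToHom hX' ≫ g) {M : X.Modules} {N : X'.Modules}
    (m : M ⟶ (Scheme.Modules.pushforward g₁).obj N) :
    BCRaw g (StMod.castMap hX hX' hg m) ⊤ ⊤ le_top ↔ BCRaw g₁ m ⊤ ⊤ le_top := by
  subst hX hX'
  obtain rfl : g₁ = g := by simpa using hg
  rw [StMod.castMap_rfl, StMod.pushforwardCongr_hom_app_self, Category.comp_id]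

/-- Base change between whole schemes is preserved by and detected on inverse images. -/
theorem bc_comap {𝒴 : AlgSt.Cat S} (π : 𝒳 ⥤ᵇ 𝒴) (H : StMod.Mod 𝒴) {x' x : 𝒳.obj} (φ : x' ⟶ x) :
    BC (StMod.Mod.comap π H) φ ⊤ ⊤ le_top ↔ BC H (π.map φ) ⊤ ⊤ le_top :=
  bcRaw_castMap _ _ _ _

/-- Base change is preserved by isomorphisms of modules. -/
theorem bc_of_iso {G' : StMod.Mod 𝒳} (e : G ≅ G') {ξ' ξ : 𝒳.obj} (φ : ξ' ⟶ ξ)
    {U : (StMod.sch 𝒳 ξ).Opens} {V : (StMod.sch 𝒳 ξ').Opens} {h : V ≤ StMod.bmap 𝒳 φ ⁻¹ᵁ U}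
    (b : BC G φ U V h) : BC G' φ U V h := by
  letI := ((StMod.bmap 𝒳 φ).appLE U V h).hom.toAlgebra
  letI := Module.compHom Γ(G.obj ξ', V) ((StMod.bmap 𝒳 φ).appLE U V h).hom
  letI := Module.compHom Γ(G'.obj ξ', V) ((StMod.bmap 𝒳 φ).appLE U V h).hom
  haveI : IsScalarTower Γ(StMod.sch 𝒳 ξ, U) Γ(StMod.sch 𝒳 ξ', V) Γ(G.obj ξ', V) :=
    IsScalarTower.of_algebraMap_smul fun _ _ => rfl
  haveI : IsScalarTower Γ(StMod.sch 𝒳 ξ, U) Γ(StMod.sch 𝒳 ξ', V) Γ(G'.obj ξ', V) :=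
    IsScalarTower.of_algebraMap_smul fun _ _ => rfl
  have inv_hom : ∀ (ζ : 𝒳.obj) (W : (StMod.sch 𝒳 ζ).Opens) (s : Γ(G.obj ζ, W)),
      (e.inv.app ζ).app W ((e.hom.app ζ).app W s) = s := fun ζ W s =>
    congrArg (fun f : G ⟶ G => (f.app ζ).app W s) e.hom_inv_id
  have hom_inv : ∀ (ζ : 𝒳.obj) (W : (StMod.sch 𝒳 ζ).Opens) (s : Γ(G'.obj ζ, W)),
      (e.hom.app ζ).app W ((e.inv.app ζ).app W s) = s := fun ζ W s =>
    congrArg (fun f : G' ⟶ G' => (f.app ζ).app W s) e.inv_hom_id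
  let eM : Γ(G.obj ξ, U) ≃ₗ[Γ(StMod.sch 𝒳 ξ, U)] Γ(G'.obj ξ, U) :=
    { toFun := (e.hom.app ξ).app U
      invFun := (e.inv.app ξ).app U
      map_add' := map_add _
      map_smul' := fun r s => Scheme.Modules.Hom.app_smul _ r s
      left_inv := inv_hom ξ U
      right_inv := hom_inv ξ U }
  let eN : Γ(G.obj ξ', V) ≃ₗ[Γ(StMod.sch 𝒳 ξ', V)] Γ(G'.obj ξ', V) :=
    { toFun := (e.hom.app ξ').app V
      invFun := (e.inv.app ξ').app V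
      map_add' := map_add _
      map_smul' := fun r s => Scheme.Modules.Hom.app_smul _ r s
      left_inv := inv_hom ξ' V
      right_inv := hom_inv ξ' V }
  exact (IsBaseChange.iff_of_equiv_comm eM eN (LinearMap.ext fun s => (pb_hom G e.hom φ V h s).symm)).1 b

end Groth.Agent.StDesc
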