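import Groth.Agent.StDesc.BC
import Mathlib.Algebra.Category.Ring.Constructions
import Mathlib.AlgebraicGeometry.Morphisms.Affine

/-!
Base change along a flat morphism of affines from effective descent in kernel form.
-/

set_option autoImplicit false
set_option linter.style.haveILetI false
set_option linter.unusedSectionVars false
set_option backward.isDefEq.respectTransparency false
set_option backward.isDefEq.respectTransparency.types false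

universe u

open CategoryTheory CategoryTheory.Limits AlgebraicGeometry TopologicalSpace Opposite
open scoped TensorProduct
open Groth.Agent.QCoh

noncomputable section

namespace Groth.Agent.StDesc

theorem appLE_top {X Y : Scheme.{u}} (f : X ⟶ Y) : f.appLE ⊤ ⊤ le_top = f.appTop :=
  (Scheme.Hom.app_eq_appLE f).symm

/-- The ring square of global functions under a cartesian square of affines. -/
theorem isPushout_appLE {P X Y Z : Scheme.{u}} {fst : P ⟶ X} {snd : P ⟶ Y} {f : X ⟶ Z} {g : Y ⟶ Z}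
    [IsAffine X] [IsAffine Y] [IsAffine Z] (h : IsPullback fst snd f g) :
    IsPushout (f.appLE ⊤ ⊤ le_top) (g.appLE ⊤ ⊤ le_top) (fst.appLE ⊤ ⊤ le_top) (snd.appLE ⊤ ⊤ le_top) := by
  rw [appLE_top, appLE_top, appLE_top, appLE_top]
  exact isPushout_appTop_of_isPullback h

variable {S : Scheme.{u}} {𝒳 : AlgSt.Cat S} {G : StMod.Mod 𝒳}

/-- If sections over `ζ` are the base change of sections over `ξ`, then they are also the base change along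
any ring map `R ⟶ B` whose pushout along `R ⟶ Γ(ξ)` is `Γ(ζ)`. -/
theorem bijective_smul_of_bc {ζ ξ : 𝒳.obj} (p : ζ ⟶ ξ) (bc : BC G p ⊤ ⊤ le_top) {R B : Type u}
    [CommRing R] [CommRing B] [Algebra R B] (g : CommRingCat.of R ⟶ Γ(StMod.sch 𝒳 ξ, ⊤))
    (i : CommRingCat.of B ⟶ Γ(StMod.sch 𝒳 ζ, ⊤))
    (h : IsPushout (CommRingCat.ofHom (algebraMap R B)) g i ((StMod.bmap 𝒳 p).appLE ⊤ ⊤ le_top))
    [Module R Γ(G.obj ξ, ⊤)] (hRQ : ∀ (r : R) (q : Γ(G.obj ξ, ⊤)), r • q = g r • q)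
    (Ψ : B ⊗[R] Γ(G.obj ξ, ⊤) →+ Γ(G.obj ζ, ⊤))
    (hΨ : ∀ b q, Ψ (b ⊗ₜ q) = i b • pb G p ⊤ le_top q) : Function.Bijective Ψ := by
  let j := (StMod.bmap 𝒳 p).appLE ⊤ ⊤ le_top
  letI : Algebra B Γ(StMod.sch 𝒳 ζ, ⊤) := i.hom.toAlgebra
  letI : Algebra Γ(StMod.sch 𝒳 ξ, ⊤) Γ(StMod.sch 𝒳 ζ, ⊤) := j.hom.toAlgebra
  letI : Algebra R Γ(StMod.sch 𝒳 ξ, ⊤) := g.hom.toAlgebra
  letI : Algebra R Γ(StMod.sch 𝒳 ζ, ⊤) := (g ≫ j).hom.toAlgebra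
  letI := Module.compHom Γ(G.obj ζ, ⊤) j.hom
  haveI : IsScalarTower R B Γ(StMod.sch 𝒳 ζ, ⊤) := IsScalarTower.of_algebraMap_eq fun r =>
    (congrArg (fun f => (ConcreteCategory.hom f) r) h.w).symm
  haveI : IsScalarTower R Γ(StMod.sch 𝒳 ξ, ⊤) Γ(StMod.sch 𝒳 ζ, ⊤) :=
    IsScalarTower.of_algebraMap_eq fun r => rfl
  haveI : Algebra.IsPushout R B Γ(StMod.sch 𝒳 ξ, ⊤) Γ(StMod.sch 𝒳 ζ, ⊤) :=
    CommRingCat.isPushout_iff_isPushout.1 h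
  haveI : IsScalarTower R Γ(StMod.sch 𝒳 ξ, ⊤) Γ(G.obj ξ, ⊤) :=
    IsScalarTower.of_algebraMap_smul fun r q => (hRQ r q).symm
  haveI : IsScalarTower Γ(StMod.sch 𝒳 ξ, ⊤) Γ(StMod.sch 𝒳 ζ, ⊤) Γ(G.obj ζ, ⊤) :=
    IsScalarTower.of_algebraMap_smul fun _ _ => rfl
  exact bijective_pushout_smul B (rawLin (StMod.bmap 𝒳 p) (G.map p rfl) ⊤ ⊤ le_top) bc Ψ (map_zero Ψ)
    (map_add Ψ) hΨ

/-- Effective descent in kernel form along a flat morphism of affines. -/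
theorem bc_of_descent {η ξ ξ₂ ξ₃ : 𝒳.obj} (g : ξ ⟶ η) (p₁ p₂ : ξ₂ ⟶ ξ) (t : ξ₃ ⟶ ξ)
    (q q₁₂ q₁₃ : ξ₃ ⟶ ξ₂) [IsAffine (StMod.sch 𝒳 η)] [IsAffine (StMod.sch 𝒳 ξ)] [Flat (StMod.bmap 𝒳 g)]
    (hw : p₁ ≫ g = p₂ ≫ g)
    (hsq : IsPullback (StMod.bmap 𝒳 p₁) (StMod.bmap 𝒳 p₂) (StMod.bmap 𝒳 g) (StMod.bmap 𝒳 g))
    (hsq₃ : IsPullback (StMod.bmap 𝒳 t) (StMod.bmap 𝒳 q) (StMod.bmap 𝒳 g) (StMod.bmap 𝒳 (p₂ ≫ g)))
    (a₁₂ : q₁₂ ≫ p₁ = t) (b₁₂ : q₁₂ ≫ p₂ = q ≫ p₁) (a₁₃ : q₁₃ ≫ p₁ = t) (b₁₃ : q₁₃ ≫ p₂ = q ≫ p₂)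
    (bc₂ : BC G p₂ ⊤ ⊤ le_top) (bc₃ : BC G q ⊤ ⊤ le_top)
    (hinj : Function.Injective (pb G g (U := ⊤) ⊤ le_top))
    (hd : Function.Injective (pb G p₁ (U := ⊤) ⊤ le_top))
    (hex : ∀ n, pb G p₁ ⊤ le_top n = pb G p₂ ⊤ le_top n → ∃ m, pb G g (U := ⊤) ⊤ le_top m = n) :
    BC G g ⊤ ⊤ le_top := by
  haveI : IsAffine (StMod.sch 𝒳 ξ₂) := .of_isPullback hsq
  let R := Γ(StMod.sch 𝒳 η, ⊤)
  let B := Γ(StMod.sch 𝒳 ξ, ⊤)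
  let k₂ := (StMod.bmap 𝒳 (p₂ ≫ g)).appLE ⊤ ⊤ le_top
  let k₃ := (StMod.bmap 𝒳 (t ≫ g)).appLE ⊤ ⊤ le_top
  letI : Algebra R B := ((StMod.bmap 𝒳 g).appLE ⊤ ⊤ le_top).hom.toAlgebra
  letI := Module.compHom Γ(G.obj ξ, ⊤) ((StMod.bmap 𝒳 g).appLE ⊤ ⊤ le_top).hom
  letI := Module.compHom Γ(G.obj ξ₂, ⊤) k₂.hom
  letI := Module.compHom Γ(G.obj ξ₃, ⊤) k₃.hom
  haveI : IsScalarTower R B Γ(G.obj ξ, ⊤) := IsScalarTower.of_algebraMap_smul fun _ _ => rfl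
  haveI : Module.Flat R B := RingHom.flat_algebraMap_iff.1
    (Flat.flat_appLE (StMod.bmap 𝒳 g) (isAffineOpen_top _) (isAffineOpen_top _) le_top)
  have e₂ : ∀ (c : ξ₂ ⟶ ξ), c ≫ g = p₂ ≫ g → ∀ r,
      (StMod.bmap 𝒳 c).appLE ⊤ ⊤ le_top ((StMod.bmap 𝒳 g).appLE ⊤ ⊤ le_top r) = k₂ r := fun c hc =>
    appLE_comp_apply _ _ (by rw [← hc, StMod.bmap_comp]) le_top le_top le_top
  have eq' : (q ≫ p₂) ≫ g = t ≫ g := by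
    rw [← b₁₃, ← a₁₃, Category.assoc, Category.assoc, hw]
  have et : ∀ r, (StMod.bmap 𝒳 t).appLE ⊤ ⊤ le_top ((StMod.bmap 𝒳 g).appLE ⊤ ⊤ le_top r) = k₃ r :=
    appLE_comp_apply _ _ (StMod.bmap_comp _ _) le_top le_top le_top
  have e₃ : ∀ c : ξ₃ ⟶ ξ₂, c ≫ p₂ ≫ g = t ≫ g → ∀ r,
      (StMod.bmap 𝒳 c).appLE ⊤ ⊤ le_top (k₂ r) = k₃ r := fun c hc =>
    appLE_comp_apply _ _ (by rw [← hc, StMod.bmap_comp]) le_top le_top le_top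
  let ι : Γ(G.obj η, ⊤) →ₗ[R] Γ(G.obj ξ, ⊤) := rawLin (StMod.bmap 𝒳 g) (G.map g rfl) ⊤ ⊤ le_top
  let d : ∀ (c : ξ₂ ⟶ ξ), c ≫ g = p₂ ≫ g → Γ(G.obj ξ, ⊤) →ₗ[R] Γ(G.obj ξ₂, ⊤) := fun c hc =>
    { toFun := pb G c ⊤ le_top
      map_add' := map_add _
      map_smul' := fun r s => (pb_smul G c ⊤ le_top _ s).trans (congrArg (· • _) (e₂ c hc r)) }
  let P : ∀ (c : ξ₃ ⟶ ξ₂), c ≫ p₂ ≫ g = t ≫ g → Γ(G.obj ξ₂, ⊤) →ₗ[R] Γ(G.obj ξ₃, ⊤) := fun c hc =>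
    { toFun := pb G c ⊤ le_top
      map_add' := map_add _
      map_smul' := fun r s => (pb_smul G c ⊤ le_top _ s).trans (congrArg (· • _) (e₃ c hc r)) }
  have hq : q ≫ p₂ ≫ g = t ≫ g := (Category.assoc _ _ _).symm.trans eq'
  have h12 : q₁₂ ≫ p₂ ≫ g = t ≫ g := by rw [← hw, ← Category.assoc, a₁₂]
  have h13 : q₁₃ ≫ p₂ ≫ g = t ≫ g := by rw [← hw, ← Category.assoc, a₁₃]
  have s₂ : ∀ (r : R) (n : Γ(G.obj ξ₂, ⊤)), r • n = k₂ r • n := fun _ _ => rfl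
  have s₃ : ∀ (r : R) (n : Γ(G.obj ξ₃, ⊤)), r • n = k₃ r • n := fun _ _ => rfl
  have sB : ∀ (r : R) (b : B), r • b = (StMod.bmap 𝒳 g).appLE ⊤ ⊤ le_top r * b := fun _ _ => rfl
  let β₂ : B →ₗ[R] Γ(G.obj ξ, ⊤) →ₗ[R] Γ(G.obj ξ₂, ⊤) := LinearMap.mk₂ R
    (fun b n => (StMod.bmap 𝒳 p₁).appLE ⊤ ⊤ le_top b • d p₂ rfl n)
    (fun b b' n => by rw [map_add, add_smul])
    (fun r b n => by rw [sB, map_mul, mul_smul, e₂ p₁ hw, s₂])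
    (fun b n n' => by rw [map_add, smul_add])
    (fun r b n => by rw [map_smul, s₂, s₂, smul_comm])
  let β₃ : B →ₗ[R] Γ(G.obj ξ₂, ⊤) →ₗ[R] Γ(G.obj ξ₃, ⊤) := LinearMap.mk₂ R
    (fun b n => (StMod.bmap 𝒳 t).appLE ⊤ ⊤ le_top b • P q hq n)
    (fun b b' n => by rw [map_add, add_smul])
    (fun r b n => by rw [sB, map_mul, mul_smul, et, s₃])
    (fun b n n' => by rw [map_add, smul_add])
    (fun r b n => by rw [map_smul, s₃, s₃, smul_comm])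
  let Ψ₂ := TensorProduct.lift β₂
  let Ψ₃ := TensorProduct.lift β₃
  have hΨ₂ : Function.Bijective Ψ₂ := by
    exact bijective_smul_of_bc p₂ bc₂ ((StMod.bmap 𝒳 g).appLE ⊤ ⊤ le_top)
      ((StMod.bmap 𝒳 p₁).appLE ⊤ ⊤ le_top) (isPushout_appLE hsq) (fun _ _ => rfl) Ψ₂.toAddMonoidHom
      fun b n => TensorProduct.lift.tmul (f' := β₂) b n
  have hΨ₃ : Function.Bijective Ψ₃ := by
    exact bijective_smul_of_bc q bc₃ k₂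
      ((StMod.bmap 𝒳 t).appLE ⊤ ⊤ le_top) (isPushout_appLE hsq₃) (fun _ _ => rfl) Ψ₃.toAddMonoidHom
      fun b n => TensorProduct.lift.tmul (f' := β₃) b n
  have hP : ∀ (c : ξ₃ ⟶ ξ₂) (hc : c ≫ p₂ ≫ g = t ≫ g) (c₂ : ξ₂ ⟶ ξ) (hc₂ : c₂ ≫ g = p₂ ≫ g),
      c ≫ p₁ = t → c ≫ p₂ = q ≫ c₂ → ∀ y, Ψ₃ ((d c₂ hc₂).lTensor B y) = P c hc (Ψ₂ y) := by
    intro c hc c₂ hc₂ h1 h2 y
    induction y using TensorProduct.induction_on with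
    | zero => simp
    | tmul b n =>
      show (StMod.bmap 𝒳 t).appLE ⊤ ⊤ le_top b • pb G q ⊤ le_top (pb G c₂ ⊤ le_top n) =
        pb G c ⊤ le_top ((StMod.bmap 𝒳 p₁).appLE ⊤ ⊤ le_top b • pb G p₂ ⊤ le_top n)
      rw [pb_smul, appLE_comp_apply _ _ (show StMod.bmap 𝒳 t = _ by rw [← h1, StMod.bmap_comp]) le_top le_top
        le_top b, pb_pb G q c₂ ⊤ le_top le_top le_top, pb_pb G c p₂ ⊤ le_top le_top le_top,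
        pb_congr G h2]
    | add y y' hy hy' => simp only [map_add, hy, hy']
  refine isBaseChange_of_descent B ι (d p₁ hw) (d p₂ rfl) hinj hex hd Ψ₂ hΨ₂ Ψ₃ hΨ₃.1
    (P q₁₂ h12) (P q₁₃ h13) ?_ (hP q₁₂ h12 p₁ hw a₁₂ b₁₂) (hP q₁₃ h13 p₂ rfl a₁₃ b₁₃) ?_
  · intro b m
    show pb G p₁ ⊤ le_top ((b : Γ(StMod.sch 𝒳 ξ, ⊤)) • pb G g ⊤ le_top m) =
      (StMod.bmap 𝒳 p₁).appLE ⊤ ⊤ le_top b • pb G p₂ ⊤ le_top (pb G g ⊤ le_top m)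
    rw [pb_smul, pb_pb G p₁ g ⊤ le_top le_top le_top, pb_pb G p₂ g ⊤ le_top le_top le_top, pb_congr G hw]
  · intro n
    show pb G q₁₂ ⊤ le_top (pb G p₁ ⊤ le_top n) = pb G q₁₃ ⊤ le_top (pb G p₁ ⊤ le_top n)
    rw [pb_pb G q₁₂ p₁ ⊤ le_top le_top le_top, pb_pb G q₁₃ p₁ ⊤ le_top le_top le_top,
      pb_congr G (a₁₂.trans a₁₃.symm)]

end Groth.Agent.StDesc
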