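import Groth.Agent.StDesc.Sec
import Groth.Agent.AlgSp.Basic
import Groth.Agent.StFib.Basic
import Groth.Prelude.Def_StGerb
import Groth.Prelude.Def_StMod6

/-!
Common refinements of two objects over an object of the target of a functor which is locally full.
-/

set_option autoImplicit false
set_option linter.style.haveILetI false
set_option linter.unusedSectionVars false
set_option backward.isDefEq.respectTransparency false
set_option backward.isDefEq.respectTransparency.types false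

universe u

open CategoryTheory CategoryTheory.Limits AlgebraicGeometry TopologicalSpace Opposite

noncomputable section

namespace Groth.Agent.StDesc

variable {S : Scheme.{u}} {𝒳 𝒴 : AlgSt.Cat S} (π : 𝒳 ⥤ᵇ 𝒴)

/-- The morphism of schemes under a morphism `π x ⟶ η`, from the scheme under `x`. -/
abbrev bO {x : 𝒳.obj} {η : 𝒴.obj} (β : π.obj x ⟶ η) : StMod.sch 𝒳 x ⟶ StMod.sch 𝒴 η :=
  (StMod.baseOver π x β).left

theorem bO_map {x' x : 𝒳.obj} (φ : x' ⟶ x) {η : 𝒴.obj} (β : π.obj x ⟶ η) :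
    bO π (π.map φ ≫ β) = StMod.bmap 𝒳 φ ≫ bO π β :=
  (StMod.bmap_comp_baseOver_left π φ β).symm

theorem bO_comp {x : 𝒳.obj} {η η' : 𝒴.obj} (β : π.obj x ⟶ η) (ψ : η ⟶ η') :
    bO π (β ≫ ψ) = bO π β ≫ StMod.bmap 𝒴 ψ :=
  congrArg CommaMorphism.left (StMod.baseOver_comp π x β ψ)

theorem bO_eq {x : 𝒳.obj} {η : 𝒴.obj} (β : π.obj x ⟶ η) :
    ∃ e : StMod.sch 𝒳 x ≅ StMod.sch 𝒴 (π.obj x), bO π β = e.hom ≫ StMod.bmap 𝒴 β :=
  ⟨(Over.forget S).mapIso (eqToIso (π.w_obj x).symm), rfl⟩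

theorem bO_id (x : 𝒳.obj) : IsIso (bO π (𝟙 (π.obj x))) := by
  obtain ⟨e, he⟩ := bO_eq π (𝟙 (π.obj x))
  rw [he, StMod.bmap_id, Category.comp_id]
  infer_instance

theorem bO_bmap {x' x : 𝒳.obj} (φ : x' ⟶ x) :
    bO π (π.map φ) = StMod.bmap 𝒳 φ ≫ bO π (𝟙 (π.obj x)) := by
  rw [← bO_map, Category.comp_id]

/-- Locally, two objects over the same object of the target have a common refinement. -/
theorem exists_common (h𝒳 : FibCat.IsFibGrpd 𝒳.p) (h𝒴 : FibCat.IsFibGrpd 𝒴.p)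
    (hhom : Gerb.LocSurjHom (QuotSh.J Scheme.fppfPrecoverage S) π)
    {x x' : 𝒳.obj} {η : 𝒴.obj} (β : π.obj x ⟶ η) (β' : π.obj x' ⟶ η)
    (z : StMod.sch 𝒳 x) (z' : StMod.sch 𝒳 x') (hz : bO π β z = bO π β' z') :
    ∃ (x₀ : 𝒳.obj) (a : x₀ ⟶ x) (b : x₀ ⟶ x'), π.map a ≫ β = π.map b ≫ β' ∧
      z ∈ Set.range (StMod.bmap 𝒳 a) ∧
      (Flat (bO π β') → Flat (StMod.bmap 𝒳 a)) ∧
      (LocallyOfFinitePresentation (bO π β') → LocallyOfFinitePresentation (StMod.bmap 𝒳 a)) := by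
  let g := bO π β
  let g' := bO π β'
  obtain ⟨x₁, a₁, e₁, ha₁⟩ := exists_lift_mor h𝒳 x (pullback.fst g g')
  let f : StMod.sch 𝒳 x₁ ⟶ StMod.sch 𝒳 x' := e₁.hom ≫ pullback.snd g g'
  have hw : f ≫ (𝒳.p.obj x').hom = (𝒳.p.obj x₁).hom := by
    have h1 : g' ≫ (𝒴.p.obj η).hom = (𝒳.p.obj x').hom := Over.w (StMod.baseOver π x' β')
    have h2 : g ≫ (𝒴.p.obj η).hom = (𝒳.p.obj x).hom := Over.w (StMod.baseOver π x β)
    have h3 : StMod.bmap 𝒳 a₁ ≫ (𝒳.p.obj x).hom = (𝒳.p.obj x₁).hom := Over.w (𝒳.p.map a₁)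
    rw [← h1, ← h3, ← h2, ha₁]
    simp [f, pullback.condition_assoc]
  obtain ⟨x₂, e₂, b₁, hb₁⟩ := StFib.grpd_exists_lift h𝒳 x' (Over.homMk f hw : 𝒳.p.obj x₁ ⟶ 𝒳.p.obj x')
  have hobj : 𝒴.p.obj (π.obj x₁) = 𝒴.p.obj (π.obj x₂) := by rw [π.w_obj, π.w_obj, e₂]
  obtain ⟨γ, hγ, hγf⟩ := StFib.grpd_exists_fac h𝒴 (π.map b₁ ≫ β') (π.map a₁ ≫ β) (eqToHom hobj) (by
    rw [Functor.map_comp, Functor.map_comp, StFib.w_map, StFib.w_map, hb₁]
    have key : Over.homMk f hw ≫ StMod.baseOver π x' β' = 𝒳.p.map a₁ ≫ StMod.baseOver π x β := by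
      apply Over.OverMorphism.ext
      show f ≫ g' = StMod.bmap 𝒳 a₁ ≫ g
      rw [ha₁]
      simp [f, pullback.condition]
    simp only [StMod.baseOver] at key
    simp only [Category.assoc, eqToHom_trans_assoc]
    rw [key])
  have hlift : 𝒴.p.IsHomLift (𝟙 (𝒳.p.obj x₁)) γ :=
    IsHomLift.of_fac' 𝒴.p _ _ (π.w_obj x₁) ((π.w_obj x₂).trans e₂) (by simp [hγ])
  obtain ⟨R, hR, hsieve⟩ := hhom x₁ x₂ γ hlift
  obtain ⟨R₀, hR₀, hsub⟩ := Groth.Agent.AlgSp.exists_cover_of_mem hR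
  obtain ⟨κ, W, c, rfl⟩ := R₀.exists_eq_ofArrows
  obtain ⟨hs, hc⟩ := (Scheme.ofArrows_mem_precoverage_iff _).1 hR₀
  obtain ⟨p, hp, -⟩ := Scheme.Pullback.exists_preimage_pullback (f := g) (g := g') z z' hz
  obtain ⟨p', hp'⟩ := e₁.hom.surjective p
  obtain ⟨j, w, hw'⟩ := hs p'
  obtain ⟨x₀, φ, ψ, hφ, -, hφψ⟩ := hsieve _ (hsub (c j) (Presieve.ofArrows.mk j))
  haveI := hφ
  have ha := IsHomLift.domain_eq 𝒳.p (Over.homMk (c j) rfl : Over.mk (c j ≫ (𝒳.p.obj x₁).hom) ⟶ _) φ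
  have hf := IsHomLift.fac' 𝒳.p (Over.homMk (c j) rfl : Over.mk (c j ≫ (𝒳.p.obj x₁).hom) ⟶ _) φ
  let e₀ : StMod.sch 𝒳 x₀ ≅ W j := (Over.forget S).mapIso (eqToIso ha)
  have hφ' : StMod.bmap 𝒳 φ = e₀.hom ≫ c j := by
    have := congrArg CommaMorphism.left hf
    simp only [Over.comp_left, Over.homMk_left, eqToHom_refl, Category.comp_id] at this
    exact this
  refine ⟨x₀, φ ≫ a₁, ψ ≫ b₁, ?_, ?_, fun h => ?_, fun h => ?_⟩
  · rw [π.toFunctor.map_comp, π.toFunctor.map_comp, Category.assoc, Category.assoc, ← hγf, ← hφψ]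
    simp [Category.assoc]
  · obtain ⟨w', rfl⟩ := e₀.hom.surjective w
    refine ⟨w', ?_⟩
    rw [StMod.bmap_comp, hφ', ha₁, ← hp, ← hp']
    exact congrArg (fun q => pullback.fst g g' (e₁.hom q)) hw'
  · haveI : Flat g' := h
    rw [StMod.bmap_comp, hφ', ha₁]
    haveI : Flat (c j) := (hc j).1
    infer_instance
  · haveI : LocallyOfFinitePresentation g' := h
    rw [StMod.bmap_comp, hφ', ha₁]
    haveI : LocallyOfFinitePresentation (c j) := (hc j).2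
    infer_instance

end Groth.Agent.StDesc
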