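import Groth.Agent.StDesc.Glue
import Groth.Agent.StDesc.Common

/-!
The pushforward of a module along a functor of categories over schemes, given by compatible families
of sections, as a module on the target.
-/

set_option autoImplicit false
set_option linter.style.haveILetI false
set_option linter.unusedSectionVars false
set_option backward.isDefEq.respectTransparency false
set_option backward.isDefEq.respectTransparency.types false

universe u

open CategoryTheory CategoryTheory.Limits AlgebraicGeometry TopologicalSpace Opposite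
open Groth.Agent.QCoh

noncomputable section

namespace Groth.Agent.StDesc

variable {S : Scheme.{u}} {𝒳 𝒴 : AlgSt.Cat S} (π : 𝒳 ⥤ᵇ 𝒴) (F : StMod.Mod 𝒳)

/-- The compatible families of sections of `F` over the objects above an open of an object of the target. -/
def famSub (η : 𝒴.obj) (U : (StMod.sch 𝒴 η).Opens) :
    AddSubgroup (∀ (x : 𝒳.obj) (β : π.obj x ⟶ η)
      (V : {V : (StMod.sch 𝒳 x).Opens // V ≤ bO π β ⁻¹ᵁ U}), Γ(F.obj x, V.1)) where
  carrier := {s | ∀ ⦃x' x : 𝒳.obj⦄ (φ : x' ⟶ x) (β : π.obj x ⟶ η) (V : (StMod.sch 𝒳 x).Opens)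
    (V' : (StMod.sch 𝒳 x').Opens) (h : V ≤ bO π β ⁻¹ᵁ U) (h' : V' ≤ bO π (π.map φ ≫ β) ⁻¹ᵁ U)
    (hV : V' ≤ StMod.bmap 𝒳 φ ⁻¹ᵁ V), pb F φ V' hV (s x β ⟨V, h⟩) = s x' (π.map φ ≫ β) ⟨V', h'⟩}
  zero_mem' := by
    intro x' x φ β V V' h h' hV
    exact map_zero _
  add_mem' := by
    intro a b ha hb x' x φ β V V' h h' hV
    simp only [Pi.add_apply, map_add]
    rw [ha φ β V V' h h' hV, hb φ β V V' h h' hV]
  neg_mem' := by
    intro a ha x' x φ β V V' h h' hV
    simp only [Pi.neg_apply, map_neg]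
    rw [ha φ β V V' h h' hV]

/-- A compatible family of sections over an open of an object of the target. -/
def Fam (η : 𝒴.obj) (U : (StMod.sch 𝒴 η).Opens) : Type (u + 1) := ↥(famSub π F η U)

instance (η : 𝒴.obj) (U : (StMod.sch 𝒴 η).Opens) : AddCommGroup (Fam π F η U) :=
  inferInstanceAs (AddCommGroup ↥(famSub π F η U))

variable {π F}

namespace Fam

variable {η : 𝒴.obj} {U : (StMod.sch 𝒴 η).Opens}

/-- The value of a family. -/
def val (s : Fam π F η U) (x : 𝒳.obj) (β : π.obj x ⟶ η) (V : (StMod.sch 𝒳 x).Opens)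
    (h : V ≤ bO π β ⁻¹ᵁ U) : Γ(F.obj x, V) := (Subtype.val s) x β ⟨V, h⟩

@[ext] theorem ext {s t : Fam π F η U} (h : ∀ x β V hV, s.val x β V hV = t.val x β V hV) : s = t :=
  Subtype.ext (funext fun x => funext fun β => funext fun V => h x β V.1 V.2)

theorem pb_val (s : Fam π F η U) {x' x : 𝒳.obj} (φ : x' ⟶ x) (β : π.obj x ⟶ η)
    {V : (StMod.sch 𝒳 x).Opens} (V' : (StMod.sch 𝒳 x').Opens) (h : V ≤ bO π β ⁻¹ᵁ U)
    (h' : V' ≤ bO π (π.map φ ≫ β) ⁻¹ᵁ U) (hV : V' ≤ StMod.bmap 𝒳 φ ⁻¹ᵁ V) :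
    pb F φ V' hV (s.val x β V h) = s.val x' (π.map φ ≫ β) V' h' := s.2 φ β V V' h h' hV

theorem val_congr (s : Fam π F η U) (x : 𝒳.obj) {β β' : π.obj x ⟶ η} (e : β = β')
    (V : (StMod.sch 𝒳 x).Opens) (h : V ≤ bO π β ⁻¹ᵁ U) :
    s.val x β V h = s.val x β' V (e ▸ h) := by subst e; rfl

theorem res_val (s : Fam π F η U) (x : 𝒳.obj) (β : π.obj x ⟶ η) {V V' : (StMod.sch 𝒳 x).Opens}
    (h : V ≤ bO π β ⁻¹ᵁ U) (h' : V' ≤ V) :
    res (F.obj x) h' (s.val x β V h) = s.val x β V' (h'.trans h) := by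
  have e : π.map (𝟙 x) ≫ β = β := by rw [π.toFunctor.map_id]; exact Category.id_comp β
  have hV : V' ≤ StMod.bmap 𝒳 (𝟙 x) ⁻¹ᵁ V := by rw [StMod.bmap_id]; exact h'
  rw [← pb_id F hV h', pb_val s (𝟙 x) β V' h (by rw [e]; exact h'.trans h) hV]
  exact val_congr s x e V' _

@[simp] theorem add_val (s t : Fam π F η U) (x β V) (h) : (s + t).val x β V h = s.val x β V h + t.val x β V h :=
  rfl

@[simp] theorem zero_val (x β V) (h) : (0 : Fam π F η U).val x β V h = 0 := rfl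

/-- Scalar multiplication by functions on the open. -/
def smulFun (r : Γ(StMod.sch 𝒴 η, U)) (s : Fam π F η U) : Fam π F η U :=
  ⟨fun x β V => (bO π β).appLE U V.1 V.2 r • s.val x β V.1 V.2, by
    intro x' x φ β V V' h h' hV
    rw [pb_smul, pb_val s φ β V' h h' hV]
    congr 1
    exact appLE_comp_apply _ _ (bO_map π φ β) h hV h' r⟩

instance : SMul Γ(StMod.sch 𝒴 η, U) (Fam π F η U) := ⟨smulFun⟩

theorem smul_val (r : Γ(StMod.sch 𝒴 η, U)) (s : Fam π F η U) (x β V) (h) :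
    (r • s).val x β V h = (bO π β).appLE U V h r • s.val x β V h := rfl

instance : Module Γ(StMod.sch 𝒴 η, U) (Fam π F η U) where
  one_smul s := by ext x β V h; simp [smul_val]
  mul_smul r r' s := by ext x β V h; simp [smul_val, mul_smul]
  smul_zero r := by ext x β V h; simp [smul_val]
  smul_add r s t := by ext x β V h; simp [smul_val]
  add_smul r r' s := by ext x β V h; simp [smul_val, add_smul]
  zero_smul s := by ext x β V h; simp [smul_val]

/-- Restriction of families along a morphism of the target and an inclusion of opens. -/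
def pull {η' : 𝒴.obj} (ψ : η' ⟶ η) {U' : (StMod.sch 𝒴 η').Opens} (hU : U' ≤ StMod.bmap 𝒴 ψ ⁻¹ᵁ U) :
    Fam π F η U →+ Fam π F η' U' :=
  AddMonoidHom.mk'
    (fun s => ⟨fun x β V => s.val x (β ≫ ψ) V.1
        (V.2.trans (((bO π β).preimage_mono hU).trans_eq (by rw [bO_comp]; rfl))), by
      intro x' x φ β V V' h h' hV
      rw [pb_val s φ (β ≫ ψ) V' _ (h'.trans (((bO π (π.map φ ≫ β)).preimage_mono hU).trans_eq
        (by rw [← Category.assoc, bO_comp π (π.map φ ≫ β)]; rfl))) hV]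
      exact val_congr s x' (Category.assoc _ _ _).symm V' _⟩)
    fun s t => rfl

theorem pull_val {η' : 𝒴.obj} (ψ : η' ⟶ η) {U' : (StMod.sch 𝒴 η').Opens}
    (hU : U' ≤ StMod.bmap 𝒴 ψ ⁻¹ᵁ U) (s : Fam π F η U) (x β V) (h : V ≤ bO π β ⁻¹ᵁ U') :
    (pull ψ hU s).val x β V h = s.val x (β ≫ ψ) V
      (h.trans (((bO π β).preimage_mono hU).trans_eq (by rw [bO_comp]; rfl))) := rfl

/-- Restriction to a smaller open. -/
def restr {U' : (StMod.sch 𝒴 η).Opens} (hU : U' ≤ U) : Fam π F η U →+ Fam π F η U' :=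
  AddMonoidHom.mk'
    (fun s => ⟨fun x β V => s.val x β V.1 (V.2.trans ((bO π β).preimage_mono hU)),
      fun _ _ φ β V V' _ h' hV => pb_val s φ β V' _ (h'.trans ((bO π (π.map φ ≫ β)).preimage_mono hU)) hV⟩)
    fun s t => rfl

theorem restr_val {U' : (StMod.sch 𝒴 η).Opens} (hU : U' ≤ U) (s : Fam π F η U) (x β V)
    (h : V ≤ bO π β ⁻¹ᵁ U') :
    (restr hU s).val x β V h = s.val x β V (h.trans ((bO π β).preimage_mono hU)) := rfl

theorem restr_smul {U' : (StMod.sch 𝒴 η).Opens} (hU : U' ≤ U) (r : Γ(StMod.sch 𝒴 η, U))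
    (s : Fam π F η U) : restr hU (r • s) = rres hU r • restr hU s := by
  ext x β V h
  rw [restr_val, smul_val, smul_val, restr_val]
  congr 1
  rw [← ConcreteCategory.comp_apply, Scheme.Hom.map_appLE]

theorem pull_smul {η' : 𝒴.obj} (ψ : η' ⟶ η) {U' : (StMod.sch 𝒴 η').Opens}
    (hU : U' ≤ StMod.bmap 𝒴 ψ ⁻¹ᵁ U) (r : Γ(StMod.sch 𝒴 η, U)) (s : Fam π F η U) :
    pull ψ hU (r • s) = (StMod.bmap 𝒴 ψ).appLE U U' hU r • pull ψ hU s := by
  ext x β V h
  rw [pull_val, smul_val, smul_val, pull_val]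
  congr 1
  exact (appLE_comp_apply _ _ (bO_comp π β ψ) hU h _ r).symm

end Fam

variable (π F)

/-- Compatible families are sets: the hypothesis under which the pushforward is defined. -/
class HasPush : Prop where
  small : ∀ (η : 𝒴.obj) (U : (StMod.sch 𝒴 η).Opens), Small.{u} (Fam π F η U)

instance [HasPush π F] (η : 𝒴.obj) (U : (StMod.sch 𝒴 η).Opens) : Small.{u} (Fam π F η U) :=
  HasPush.small η U

variable [HasPush π F]

/-- Sections of the pushforward, as a small type. -/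
abbrev Sect (η : 𝒴.obj) (U : (StMod.sch 𝒴 η).Opens) : Type u := Shrink.{u} (Fam π F η U)

variable {π F}

/-- The family of a section. -/
abbrev toFam {η : 𝒴.obj} {U : (StMod.sch 𝒴 η).Opens} (s : Sect π F η U) : Fam π F η U :=
  (Shrink.linearEquiv Γ(StMod.sch 𝒴 η, U) (Fam π F η U)) s

/-- The section of a family. -/
abbrev ofFam {η : 𝒴.obj} {U : (StMod.sch 𝒴 η).Opens} (s : Fam π F η U) : Sect π F η U :=
  (Shrink.linearEquiv Γ(StMod.sch 𝒴 η, U) (Fam π F η U)).symm s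

theorem toFam_ofFam {η : 𝒴.obj} {U : (StMod.sch 𝒴 η).Opens} (s : Fam π F η U) : toFam (ofFam s) = s :=
  LinearEquiv.apply_symm_apply _ s

theorem restr_smul_sect {η : 𝒴.obj} {U U' : (StMod.sch 𝒴 η).Opens} (h : U' ≤ U)
    (r : Γ(StMod.sch 𝒴 η, U)) (s : Sect π F η U) :
    ofFam (Fam.restr h (toFam (r • s))) = rres h r • ofFam (Fam.restr h (toFam s)) := by
  rw [toFam, map_smul, Fam.restr_smul, ofFam, map_smul]

/-- Restriction of sections along a morphism of the target. -/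
def pullSect {η' η : 𝒴.obj} (ψ : η' ⟶ η) {U : (StMod.sch 𝒴 η).Opens} {U' : (StMod.sch 𝒴 η').Opens}
    (h : U' ≤ StMod.bmap 𝒴 ψ ⁻¹ᵁ U) : Sect π F η U →+ Sect π F η' U' :=
  ((Shrink.linearEquiv Γ(StMod.sch 𝒴 η', U') (Fam π F η' U')).symm.toAddEquiv.toAddMonoidHom).comp
    ((Fam.pull ψ h).comp (Shrink.linearEquiv Γ(StMod.sch 𝒴 η, U) (Fam π F η U)).toAddEquiv.toAddMonoidHom)

theorem pullSect_smul {η' η : 𝒴.obj} (ψ : η' ⟶ η) {U : (StMod.sch 𝒴 η).Opens}
    {U' : (StMod.sch 𝒴 η').Opens} (h : U' ≤ StMod.bmap 𝒴 ψ ⁻¹ᵁ U) (r : Γ(StMod.sch 𝒴 η, U))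
    (s : Sect π F η U) :
    pullSect ψ h (r • s) = (StMod.bmap 𝒴 ψ).appLE U U' h r • pullSect ψ h s := by
  show ofFam (Fam.pull ψ h (toFam (r • s))) = _ • ofFam (Fam.pull ψ h (toFam s))
  rw [toFam, map_smul, Fam.pull_smul, ofFam, map_smul]

theorem ofFam_toFam {η : 𝒴.obj} {U : (StMod.sch 𝒴 η).Opens} (s : Sect π F η U) : ofFam (toFam s) = s :=
  LinearEquiv.symm_apply_apply _ s

variable (π F)

/-- The abelian presheaf of the pushforward. -/
def pushAb (η : 𝒴.obj) : TopCat.Presheaf Ab.{u} (StMod.sch 𝒴 η) where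
  obj U := AddCommGrpCat.of (Sect π F η U.unop)
  map {U V} i := AddCommGrpCat.ofHom
    (AddMonoidHom.mk' (fun s => ofFam (Fam.restr (leOfHom i.unop) (toFam s))) fun a b => by simp)
  map_id U := by
    refine ConcreteCategory.hom_ext _ _ fun s => ?_
    show ofFam (Fam.restr _ (toFam s)) = s
    rw [show Fam.restr (leOfHom (𝟙 U : U ⟶ U).unop) (toFam s) = toFam s from by ext x β V h; rfl]
    exact ofFam_toFam _
  map_comp {U V W} i j := by
    refine ConcreteCategory.hom_ext _ _ fun s => ?_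
    show ofFam (Fam.restr _ (toFam s)) = ofFam (Fam.restr _ (toFam (ofFam (Fam.restr _ (toFam s)))))
    simp only [toFam_ofFam]
    rfl

instance (η : 𝒴.obj) (U : (StMod.sch 𝒴 η).Opensᵒᵖ) :
    Module ((StMod.sch 𝒴 η).ringCatSheaf.obj.obj U) ((pushAb π F η).obj U) :=
  inferInstanceAs (Module Γ(StMod.sch 𝒴 η, U.unop) (Sect π F η U.unop))

theorem pushAb_isSheaf (η : 𝒴.obj) : TopCat.Presheaf.IsSheaf (pushAb π F η) := by
  rw [TopCat.Presheaf.isSheaf_iff_isSheafUniqueGluing]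
  intro ι U sf hsf
  have hcomp : ∀ (x : 𝒳.obj) (β : π.obj x ⟶ η) (V : (StMod.sch 𝒳 x).Opens) (i j : ι)
      (h₁ : V ≤ bO π β ⁻¹ᵁ U i) (h₂ : V ≤ bO π β ⁻¹ᵁ U j),
      (toFam (sf i)).val x β V h₁ = (toFam (sf j)).val x β V h₂ := by
    intro x β V i j h₁ h₂
    have h := congrArg (fun s : Sect π F η (U i ⊓ U j) => toFam s) (hsf i j)
    simp only [pushAb, AddCommGrpCat.hom_ofHom, AddMonoidHom.mk'_apply] at h
    have h' := congrArg (fun s : Fam π F η (U i ⊓ U j) => s.val x β V (le_inf h₁ h₂))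
      ((toFam_ofFam _).symm.trans (h.trans (toFam_ofFam _)))
    exact h'
  have hex : ∀ (x : 𝒳.obj) (β : π.obj x ⟶ η) (V : (StMod.sch 𝒳 x).Opens) (_ : V ≤ bO π β ⁻¹ᵁ iSup U),
      ∃ v : Γ(F.obj x, V), ∀ i, res (F.obj x) (inf_le_left : V ⊓ bO π β ⁻¹ᵁ U i ≤ V) v =
        (toFam (sf i)).val x β _ inf_le_right := by
    intro x β V h
    refine exists_glue (F.obj x) (fun i => inf_le_left) (fun z hz => ?_) _ (fun i j => ?_)
    · obtain ⟨i, hi⟩ := Opens.mem_iSup.1 (h hz)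
      exact Opens.mem_iSup.2 ⟨i, hz, hi⟩
    · rw [Fam.res_val, Fam.res_val]
      exact hcomp x β _ i j _ _
  choose v hv using hex
  have huniq : ∀ (x : 𝒳.obj) (β : π.obj x ⟶ η) (V : (StMod.sch 𝒳 x).Opens) (h : V ≤ bO π β ⁻¹ᵁ iSup U)
      (w : Γ(F.obj x, V)),
      (∀ i, res (F.obj x) (inf_le_left : V ⊓ bO π β ⁻¹ᵁ U i ≤ V) w =
        (toFam (sf i)).val x β _ inf_le_right) → w = v x β V h := fun x β V h w hw =>
    eq_of_locally_eq (F.obj x) (fun i => inf_le_left) (fun z hz => by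
      obtain ⟨i, hi⟩ := Opens.mem_iSup.1 (h hz)
      exact Opens.mem_iSup.2 ⟨i, hz, hi⟩) _ _ (fun i => (hw i).trans (hv x β V h i).symm)
  let t : Fam π F η (iSup U) := ⟨fun x β V => v x β V.1 V.2, by
    intro x' x φ β V V' h h' hV
    refine huniq x' _ V' h' _ fun i => ?_
    have hW : V' ⊓ bO π (π.map φ ≫ β) ⁻¹ᵁ U i ≤ StMod.bmap 𝒳 φ ⁻¹ᵁ (V ⊓ bO π β ⁻¹ᵁ U i) := fun z hz =>
      ⟨hV hz.1, by
        show bO π β (StMod.bmap 𝒳 φ z) ∈ U i
        have hz2 : bO π (π.map φ ≫ β) z ∈ U i := hz.2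
        rw [bO_map] at hz2
        exact hz2⟩
    rw [res_pb, ← Fam.pb_val (toFam (sf i)) φ β _ inf_le_right inf_le_right hW, ← hv x β V h i,
      pb_res]⟩
  refine ⟨ofFam t, fun i => ?_, fun s hs => ?_⟩
  · show ofFam (Fam.restr _ (toFam (ofFam t))) = sf i
    rw [toFam_ofFam]
    refine Eq.trans (congrArg ofFam ?_) (ofFam_toFam (show Sect π F η (U i) from sf i))
    ext x β V h
    show v x β V _ = _
    refine (huniq x β V _ _ fun j => ?_).symm
    rw [Fam.res_val]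
    exact hcomp x β _ i j _ _
  · apply (Shrink.linearEquiv Γ(StMod.sch 𝒴 η, iSup U) (Fam π F η (iSup U))).injective
    refine Eq.trans ?_ (LinearEquiv.apply_symm_apply _ t).symm
    ext x β V h
    refine huniq x β V h _ fun i => ?_
    have e : ofFam (Fam.restr (le_iSup U i) (toFam (show Sect π F η (iSup U) from s))) = sf i := hs i
    rw [Fam.res_val, ← e, toFam_ofFam]
    rfl

/-- The pushforward on the scheme under an object. -/
def pushObj (η : 𝒴.obj) : (StMod.sch 𝒴 η).Modules :=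
  ⟨PresheafOfModules.ofPresheaf (R := (StMod.sch 𝒴 η).ringCatSheaf.obj) (pushAb π F η)
    (fun {U V} i r (s : Sect π F η U.unop) => restr_smul_sect (leOfHom i.unop) r s),
    pushAb_isSheaf π F η⟩

variable {π F}

/-- The family of a section of the pushforward. -/
def secFam {η : 𝒴.obj} {U : (StMod.sch 𝒴 η).Opens} :
    Γ(pushObj π F η, U) ≃ₗ[Γ(StMod.sch 𝒴 η, U)] Fam π F η U :=
  Shrink.linearEquiv Γ(StMod.sch 𝒴 η, U) (Fam π F η U)

theorem secFam_res {η : 𝒴.obj} {U U' : (StMod.sch 𝒴 η).Opens} (h : U' ≤ U) (s : Γ(pushObj π F η, U)) :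
    secFam (res (pushObj π F η) h s) = Fam.restr h (secFam s) :=
  LinearEquiv.apply_symm_apply _ _

variable (π F)

/-- The comparison map of the pushforward along a morphism of the target. -/
def pushMap {η' η : 𝒴.obj} (ψ : η' ⟶ η) {g : StMod.sch 𝒴 η' ⟶ StMod.sch 𝒴 η} (hg : StMod.bmap 𝒴 ψ = g) :
    pushObj π F η ⟶ (Scheme.Modules.pushforward g).obj (pushObj π F η') :=
  ⟨PresheafOfModules.homMk
    { app := fun U => AddCommGrpCat.ofHom
        (show Sect π F η U.unop →+ Sect π F η' (g ⁻¹ᵁ U.unop) from pullSect ψ (by rw [hg]))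
      naturality := fun {U V} i => by
        subst hg
        refine ConcreteCategory.hom_ext _ _ fun s => ?_
        show ofFam (Fam.pull ψ le_rfl (toFam (ofFam (Fam.restr (leOfHom i.unop) (toFam (show Sect π F η U.unop from s)))))) =
          ofFam (Fam.restr ((StMod.bmap 𝒴 ψ).preimage_mono (leOfHom i.unop))
            (toFam (ofFam (Fam.pull ψ le_rfl (toFam (show Sect π F η U.unop from s))))))
        simp only [toFam_ofFam]
        rfl }
    (fun U r (s : Sect π F η U.unop) => by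
      subst hg
      refine (pullSect_smul ψ le_rfl r s).trans ?_
      rw [← Scheme.Hom.app_eq_appLE]
      rfl)⟩

/-- The pushforward of a module. -/
def push : StMod.Mod 𝒴 where
  obj η := pushObj π F η
  map ψ _ hg := pushMap π F ψ hg
  map_id η := by
    apply Scheme.Modules.hom_ext
    intro U
    refine ConcreteCategory.hom_ext _ _ fun (s : Sect π F η U) => ?_
    show ofFam (Fam.pull (𝟙 η) (show U ≤ StMod.bmap 𝒴 (𝟙 η) ⁻¹ᵁ U by rw [StMod.bmap_id]; rfl) (toFam s)) = s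
    apply (LinearEquiv.symm_apply_eq _).2
    ext x β V h
    exact Fam.val_congr (toFam s) x (Category.comp_id β) V _
  map_comp ψ φ h g hh hg := by
    subst hh hg
    apply Scheme.Modules.hom_ext
    intro U
    refine ConcreteCategory.hom_ext _ _ fun (s : Sect π F _ U) => ?_
    show ofFam (Fam.pull (ψ ≫ φ) (show StMod.bmap 𝒴 ψ ⁻¹ᵁ (StMod.bmap 𝒴 φ ⁻¹ᵁ U) ≤ StMod.bmap 𝒴 (ψ ≫ φ) ⁻¹ᵁ U by
        rw [StMod.bmap_comp]; rfl) (toFam s)) =
      ofFam (Fam.pull ψ le_rfl (toFam (ofFam (Fam.pull φ le_rfl (toFam s)))))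
    simp only [toFam_ofFam]
    congr 1
    ext x β V hV
    exact Fam.val_congr (toFam s) x (Category.assoc _ _ _).symm V _

variable {π F}

theorem secFam_pb {η' η : 𝒴.obj} (ψ : η' ⟶ η) {U : (StMod.sch 𝒴 η).Opens} (V : (StMod.sch 𝒴 η').Opens)
    (h : V ≤ StMod.bmap 𝒴 ψ ⁻¹ᵁ U) (s : Γ((push π F).obj η, U)) :
    secFam (pb (push π F) ψ V h s) = Fam.pull ψ h (secFam s) := by
  refine (secFam_res h _).trans ?_
  refine (congrArg (Fam.restr h) (show secFam (U := StMod.bmap 𝒴 ψ ⁻¹ᵁ U)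
    (((push π F).map ψ rfl).app U s) = Fam.pull ψ le_rfl (secFam s) from LinearEquiv.apply_symm_apply _ _)).trans ?_
  ext x β V' hV
  rfl

end Groth.Agent.StDesc
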