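import Groth.Agent.StDesc.PushQCoh

/-!
Descent of quasi-coherent modules along functors which are locally full and locally essentially surjective.
-/

set_option autoImplicit false
set_option linter.style.haveILetI false
set_option linter.unusedSectionVars false
set_option backward.isDefEq.respectTransparency false
set_option backward.isDefEq.respectTransparency.types false

universe u

open CategoryTheory CategoryTheory.Limits AlgebraicGeometry TopologicalSpace Opposite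
open Groth.Agent.QCoh

noncomputable section

namespace Groth.Agent.StDesc

theorem castHom_bijective {X T : Scheme.{u}} (h : X = T) (M N : X.Modules) :
    Function.Bijective fun a : M ⟶ N => StMod.castHom h a := by
  subst h; exact Function.bijective_id

theorem castMap_castHom {X X' T T' : Scheme.{u}} (hX : X = T) (hX' : X' = T') {g₁ : X' ⟶ X} {g : T' ⟶ T}
    (hg : g₁ ≫ eqToHom hX = eqToHom hX' ≫ g) {M M₂ : X.Modules} {N N₂ : X'.Modules}
    {m : M ⟶ (Scheme.Modules.pushforward g₁).obj N} {m₂ : M₂ ⟶ (Scheme.Modules.pushforward g₁).obj N₂}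
    (a : M ⟶ M₂) (b : N ⟶ N₂)
    (h : StMod.castMap hX hX' hg m ≫ (Scheme.Modules.pushforward g).map (StMod.castHom hX' b) =
      StMod.castHom hX a ≫ StMod.castMap hX hX' hg m₂) :
    m ≫ (Scheme.Modules.pushforward g₁).map b = a ≫ m₂ := by
  subst hX hX'
  obtain rfl : g₁ = g := by simpa using hg
  rwa [StMod.castMap_rfl_self, StMod.castMap_rfl_self, StMod.castHom_rfl, StMod.castHom_rfl] at h

variable {S : Scheme.{u}} {𝒳 𝒴 : AlgSt.Cat S} {π : 𝒳 ⥤ᵇ 𝒴}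

theorem exists_map_of_common (L : LocEquiv π) {x y : 𝒳.obj} (β : π.obj y ⟶ π.obj x)
    (z : StMod.sch 𝒳 y) :
    ∃ (y₁ : 𝒳.obj) (c : y₁ ⟶ y) (d : y₁ ⟶ x), π.map c ≫ β = π.map d ∧
      Flat (StMod.bmap 𝒳 c) ∧ LocallyOfFinitePresentation (StMod.bmap 𝒳 c) ∧
      z ∈ Set.range (StMod.bmap 𝒳 c) := by
  haveI := bO_id π x
  obtain ⟨z', hz'⟩ := (bO π (𝟙 (π.obj x))).surjective (bO π β z)
  obtain ⟨y₁, c, d, h, hr, h1, h2⟩ := exists_common π L.fibX L.fibY L.hom β (𝟙 (π.obj x)) z z' hz'.symm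
  exact ⟨y₁, c, d, h.trans (Category.comp_id _), h1 inferInstance, h2 inferInstance, hr⟩

theorem bmap_map_eq (x' x : 𝒳.obj) (φ : x' ⟶ x) :
    bO π (π.map φ) = bO π (𝟙 (π.obj x')) ≫ StMod.bmap 𝒴 (π.map φ) :=
  bO_one_comp _

theorem flat_map {x' x : 𝒳.obj} (φ : x' ⟶ x) [Flat (StMod.bmap 𝒳 φ)] : Flat (StMod.bmap 𝒴 (π.map φ)) := by
  haveI := bO_id π x'
  haveI := bO_id π x
  have e : StMod.bmap 𝒴 (π.map φ) =
      inv (bO π (𝟙 (π.obj x'))) ≫ StMod.bmap 𝒳 φ ≫ bO π (𝟙 (π.obj x)) := by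
    rw [← bO_bmap, bmap_map_eq, IsIso.inv_hom_id_assoc]
  rw [e]
  infer_instance

theorem range_map {x' x : 𝒳.obj} (φ : x' ⟶ x) (z : StMod.sch 𝒳 x) (hz : z ∈ Set.range (StMod.bmap 𝒳 φ)) :
    bO π (𝟙 (π.obj x)) z ∈ Set.range (StMod.bmap 𝒴 (π.map φ)) := by
  obtain ⟨w, rfl⟩ := hz
  refine ⟨bO π (𝟙 (π.obj x')) w, ?_⟩
  have := congrArg (fun f => f w) ((bmap_map_eq (π := π) _ _ φ).symm.trans (bO_bmap π φ))
  exact this

/-- Sections at an image object agree if they agree along lifts of a morphism from it. -/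
theorem ext_map (L : LocEquiv π) {G : StMod.Mod 𝒴} (hG : G.IsCartesian) {y x : 𝒳.obj}
    (β : π.obj y ⟶ π.obj x) {U : (StMod.sch 𝒴 (π.obj y)).Opens} (s t : Γ(G.obj (π.obj y), U))
    (h : ∀ (y₁ : 𝒳.obj) (c : y₁ ⟶ y) (d : y₁ ⟶ x), π.map c ≫ β = π.map d →
      pb G (π.map c) _ le_rfl s = pb G (π.map c) _ le_rfl t) : s = t := by
  haveI := bO_id π y
  refine ext_flat hG _ _ fun q _ => ?_
  obtain ⟨w, hw⟩ := (bO π (𝟙 (π.obj y))).surjective q
  obtain ⟨y₁, c, d, hcd, h1, -, hr⟩ := exists_map_of_common L β w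
  exact ⟨_, π.map c, flat_map c, hw ▸ range_map c w hr, h y₁ c d hcd⟩

/-- Inverse image along a local equivalence is faithful on cartesian modules. -/
theorem comap_faithful (L : LocEquiv π) {G G' : StMod.Mod 𝒴} (hG' : G'.IsCartesian) (u v : G ⟶ G')
    (h : StMod.Mod.comapMap π u = StMod.Mod.comapMap π v) : u = v := by
  apply StMod.Mod.hom_ext
  intro η
  apply Scheme.Modules.hom_ext
  intro U
  refine ConcreteCategory.hom_ext _ _ fun s => ext_flat hG' _ _ fun z hz => ?_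
  obtain ⟨x, g, h1, -, ⟨q, hq⟩⟩ := exists_cover L η z
  haveI := bO_id π x
  haveI := h1
  haveI : Flat (StMod.bmap 𝒴 g) := by
    rw [show StMod.bmap 𝒴 g = inv (bO π (𝟙 (π.obj x))) ≫ bO π g by rw [bO_one_comp g, IsIso.inv_hom_id_assoc]]
    infer_instance
  refine ⟨π.obj x, g, inferInstance, ⟨bO π (𝟙 (π.obj x)) q, ?_⟩, ?_⟩
  · rw [bO_one_comp] at hq
    exact hq
  · have e : u.app (π.obj x) = v.app (π.obj x) :=
      (castHom_bijective (StMod.sch_obj_eq π x) _ _).1 (congrArg (fun w => StMod.Mod.Hom.app w x) h)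
    rw [← pb_hom G u, ← pb_hom G v, e]

/-- Inverse image along a local equivalence is full on quasi-coherent modules. -/
theorem comap_full (L : LocEquiv π) {G G' : StMod.Mod 𝒴} (hG' : StMod.isQCoh 𝒴 G')
    (v : StMod.Mod.comap π G ⟶ StMod.Mod.comap π G') : ∃ u : G ⟶ G', StMod.Mod.comapMap π u = v := by
  choose w hw using fun x : 𝒳.obj => (castHom_bijective (StMod.sch_obj_eq π x) (G.obj (π.obj x))
    (G'.obj (π.obj x))).2 (v.app x)
  have hnat : ∀ {x' x : 𝒳.obj} (φ : x' ⟶ x),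
      G.map (π.map φ) rfl ≫ (Scheme.Modules.pushforward (StMod.bmap 𝒴 (π.map φ))).map (w x') =
        w x ≫ G'.map (π.map φ) rfl := by
    intro x' x φ
    have h := v.comm φ (g := StMod.bmap 𝒳 φ) rfl
    rw [← hw x', ← hw x] at h
    exact castMap_castHom _ _ _ _ _ h
  have hpb : ∀ {x' x : 𝒳.obj} (φ : x' ⟶ x) {U : (StMod.sch 𝒴 (π.obj x)).Opens}
      (V : (StMod.sch 𝒴 (π.obj x')).Opens) (h : V ≤ StMod.bmap 𝒴 (π.map φ) ⁻¹ᵁ U) (s : Γ(G.obj (π.obj x), U)),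
      pb G' (π.map φ) V h ((w x).app U s) = (w x').app V (pb G (π.map φ) V h s) := by
    intro x' x φ U V h s
    rw [pb_apply, pb_apply, app_res]
    exact congrArg (res (G'.obj _) h)
      (congrArg (fun f => (ConcreteCategory.hom f) s)
        (congrArg (fun f => Scheme.Modules.Hom.app f U) (hnat φ))).symm
  have flatg : ∀ {x : 𝒳.obj} {η : 𝒴.obj} (g : π.obj x ⟶ η), Flat (bO π g) → Flat (StMod.bmap 𝒴 g) := by
    intro x η g h
    haveI := bO_id π x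
    rw [show StMod.bmap 𝒴 g = inv (bO π (𝟙 (π.obj x))) ≫ bO π g by rw [bO_one_comp g, IsIso.inv_hom_id_assoc]]
    infer_instance
  have lfpg : ∀ {x : 𝒳.obj} {η : 𝒴.obj} (g : π.obj x ⟶ η), LocallyOfFinitePresentation (bO π g) →
      LocallyOfFinitePresentation (StMod.bmap 𝒴 g) := by
    intro x η g h
    haveI := bO_id π x
    rw [show StMod.bmap 𝒴 g = inv (bO π (𝟙 (π.obj x))) ≫ bO π g by rw [bO_one_comp g, IsIso.inv_hom_id_assoc]]
    infer_instance
  have key : ∀ (η : 𝒴.obj) (U : (StMod.sch 𝒴 η).Opens) (s : Γ(G.obj η, U)),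
      ∃ s' : Γ(G'.obj η, U), ∀ (x : 𝒳.obj) (g : π.obj x ⟶ η) (V : (StMod.sch 𝒴 (π.obj x)).Opens)
        (h : V ≤ StMod.bmap 𝒴 g ⁻¹ᵁ U), pb G' g V h s' = (w x).app V (pb G g V h s) := by
    intro η U s
    have hcmp : ∀ {x x' : 𝒳.obj} (g : π.obj x ⟶ η) (g' : π.obj x' ⟶ η) {ζ : 𝒴.obj} (a : ζ ⟶ π.obj x)
        (b : ζ ⟶ π.obj x') (V : (StMod.sch 𝒴 (π.obj x)).Opens) (V' : (StMod.sch 𝒴 (π.obj x')).Opens)
        (h : V ≤ StMod.bmap 𝒴 g ⁻¹ᵁ U) (h' : V' ≤ StMod.bmap 𝒴 g' ⁻¹ᵁ U) (_ : a ≫ g = b ≫ g')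
        (W : (StMod.sch 𝒴 ζ).Opens) (ha : W ≤ StMod.bmap 𝒴 a ⁻¹ᵁ V) (hb : W ≤ StMod.bmap 𝒴 b ⁻¹ᵁ V'),
        pb G' a W ha ((w x).app V (pb G g V h s)) = pb G' b W hb ((w x').app V' (pb G g' V' h' s)) := by
      intro x x' g g' ζ a b V V' h h' hab W ha hb
      refine ext_flat hG'.1 _ _ fun z hz => ?_
      obtain ⟨y, k, h1, -, ⟨q, hq⟩⟩ := exists_cover L ζ z
      haveI := bO_id π y
      refine ⟨π.obj y, k, flatg k h1, ⟨bO π (𝟙 (π.obj y)) q, by rw [bO_one_comp] at hq; exact hq⟩, ?_⟩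
      refine ext_map L hG'.1 (k ≫ a) _ _ fun y₁ c d hcd => ?_
      refine ext_map L hG'.1 (π.map c ≫ k ≫ b) _ _ fun y₂ c' d' hcd' => ?_
      have e1 : (π.map c' ≫ π.map c ≫ k) ≫ a = π.map (c' ≫ d) := by
        rw [π.toFunctor.map_comp, Category.assoc, Category.assoc]
        exact congrArg (fun m => π.map c' ≫ m) hcd
      have e2 : (π.map c' ≫ π.map c ≫ k) ≫ b = π.map d' := by
        rw [Category.assoc, Category.assoc]
        exact hcd'
      set W₂ := StMod.bmap 𝒴 (π.map c') ⁻¹ᵁ (StMod.bmap 𝒴 (π.map c) ⁻¹ᵁ (StMod.bmap 𝒴 k ⁻¹ᵁ W)) with hW₂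
      have hWk : W₂ ≤ StMod.bmap 𝒴 (π.map c' ≫ π.map c ≫ k) ⁻¹ᵁ W := fun r hr => by
        show StMod.bmap 𝒴 (π.map c' ≫ π.map c ≫ k) r ∈ W
        rw [StMod.bmap_comp, StMod.bmap_comp]
        exact hr
      have h1 : W₂ ≤ StMod.bmap 𝒴 (π.map (c' ≫ d)) ⁻¹ᵁ V := fun r hr => by
        show StMod.bmap 𝒴 (π.map (c' ≫ d)) r ∈ V
        rw [← e1, StMod.bmap_comp]
        exact ha (hWk hr)
      have h2 : W₂ ≤ StMod.bmap 𝒴 (π.map d') ⁻¹ᵁ V' := fun r hr => by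
        show StMod.bmap 𝒴 (π.map d') r ∈ V'
        rw [← e2, StMod.bmap_comp]
        exact hb (hWk hr)
      rw [pb_pb G' (π.map c) k _ le_rfl le_rfl (by rw [StMod.bmap_comp]; rfl),
        pb_pb G' (π.map c) k _ le_rfl le_rfl (by rw [StMod.bmap_comp]; rfl),
        pb_pb G' (π.map c') (π.map c ≫ k) _ _ le_rfl hWk, pb_pb G' (π.map c') (π.map c ≫ k) _ _ le_rfl hWk,
        pb_pb G' _ a _ ha hWk (by rw [e1]; exact h1), pb_pb G' _ b _ hb hWk (by rw [e2]; exact h2),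
        pb_congr G' e1, pb_congr G' e2, hpb, hpb]
      have e3 : π.map (c' ≫ d) ≫ g = π.map d' ≫ g' := by
        rw [← e1, ← e2, Category.assoc, Category.assoc _ b, hab]
      have h3 : W₂ ≤ StMod.bmap 𝒴 (π.map (c' ≫ d) ≫ g) ⁻¹ᵁ U := fun r hr => by
        show StMod.bmap 𝒴 (π.map (c' ≫ d) ≫ g) r ∈ U
        rw [StMod.bmap_comp]
        exact h (h1 hr)
      rw [pb_pb G _ g _ h h1 h3, pb_pb G _ g' _ h' h2 (e3 ▸ h3), pb_congr G e3]
    choose x g hfl hfp hr using exists_cover L η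
    haveI := fun z => bO_id π (x z)
    obtain ⟨s', hs'⟩ := exists_glue_flat L.fibY hG' (U := U) (κ := StMod.sch 𝒴 η) g
      (fun z => flatg _ (hfl z)) (fun z => lfpg _ (hfp z))
      (fun z _ => ⟨z, by
        obtain ⟨q, hq⟩ := hr z
        rw [bO_one_comp] at hq
        exact ⟨_, hq⟩⟩)
      (fun z => (w (x z)).app _ (pb G (g z) _ le_rfl s))
      (fun ζ j k a b hab W ha hb => hcmp (g j) (g k) a b _ _ le_rfl le_rfl hab W ha hb)
    refine ⟨s', fun y k V h => ext_flat hG'.1 _ _ fun q hq => ?_⟩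
    haveI := bO_id π y
    obtain ⟨q₀, hq₀⟩ := (bO π (𝟙 (π.obj y))).surjective q
    obtain ⟨q₁, hq₁⟩ := hr (StMod.bmap 𝒴 k q)
    obtain ⟨y₁, c, d, hcd, hrange, hfl₁, -⟩ := exists_common π L.fibX L.fibY L.hom k
      (g (StMod.bmap 𝒴 k q)) q₀ q₁ (by rw [hq₁, bO_one_comp k]; exact congrArg (StMod.bmap 𝒴 k) hq₀)
    haveI := hfl₁ (hfl _)
    refine ⟨_, π.map c, flat_map c, hq₀ ▸ range_map c q₀ hrange, ?_⟩
    have h1 : StMod.bmap 𝒴 (π.map c) ⁻¹ᵁ V ≤
        StMod.bmap 𝒴 (π.map d) ⁻¹ᵁ (StMod.bmap 𝒴 (g (StMod.bmap 𝒴 k q)) ⁻¹ᵁ U) := fun r hr => by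
      show StMod.bmap 𝒴 (g _) (StMod.bmap 𝒴 (π.map d) r) ∈ U
      have h2 : StMod.bmap 𝒴 (π.map c ≫ k) r ∈ U := by rw [StMod.bmap_comp]; exact h hr
      rw [hcd, StMod.bmap_comp] at h2
      exact h2
    have h2 : StMod.bmap 𝒴 (π.map c) ⁻¹ᵁ V ≤ StMod.bmap 𝒴 (π.map c ≫ k) ⁻¹ᵁ U := fun r hr => by
      show StMod.bmap 𝒴 (π.map c ≫ k) r ∈ U
      rw [StMod.bmap_comp]
      exact h hr
    rw [hpb, pb_pb G _ k _ h le_rfl h2, pb_pb G' _ k _ h le_rfl h2, pb_congr G hcd, pb_congr G' hcd,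
      ← pb_pb G' _ (g _) _ le_rfl h1 (hcd ▸ h2), hs', hpb, pb_pb G _ (g _) _ le_rfl h1 (hcd ▸ h2)]
  choose f hf using key
  have huniq : ∀ (η : 𝒴.obj) (U : (StMod.sch 𝒴 η).Opens) (s : Γ(G.obj η, U)) (t : Γ(G'.obj η, U)),
      (∀ (x : 𝒳.obj) (g : π.obj x ⟶ η) (V : (StMod.sch 𝒴 (π.obj x)).Opens)
        (h : V ≤ StMod.bmap 𝒴 g ⁻¹ᵁ U), pb G' g V h t = (w x).app V (pb G g V h s)) → t = f η U s := by
    intro η U s t ht
    refine ext_flat hG'.1 _ _ fun z _ => ?_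
    obtain ⟨x, g, h1, -, ⟨q, hq⟩⟩ := exists_cover L η z
    rw [bO_one_comp] at hq
    exact ⟨π.obj x, g, flatg g h1, ⟨_, hq⟩, (ht x g _ le_rfl).trans (hf η U s x g _ le_rfl).symm⟩
  let app : ∀ η : 𝒴.obj, G.obj η ⟶ G'.obj η := fun η =>
    ⟨PresheafOfModules.homMk
      { app := fun U => AddCommGrpCat.ofHom
          (show Γ(G.obj η, U.unop) →+ Γ(G'.obj η, U.unop) from
            AddMonoidHom.mk' (f η U.unop) fun a b => (huniq η _ _ _ fun x g V h => by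
              rw [map_add, map_add, map_add, hf, hf]).symm)
        naturality := fun {U V} i => by
          refine ConcreteCategory.hom_ext _ _ fun (s : Γ(G.obj η, U.unop)) => ?_
          refine (huniq η V.unop (res (G.obj η) (leOfHom i.unop) s)
            (res (G'.obj η) (leOfHom i.unop) (f η U.unop s)) fun x g W h => ?_).symm
          rw [pb_res, pb_res, hf] }
      (fun U r (s : Γ(G.obj η, U.unop)) => (huniq η U.unop ((show Γ(StMod.sch 𝒴 η, U.unop) from r) • s)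
        ((show Γ(StMod.sch 𝒴 η, U.unop) from r) • f η U.unop s) fun x g W h => by
          rw [pb_smul, pb_smul, hf, Scheme.Modules.Hom.app_smul]).symm)⟩
  let u : G ⟶ G' :=
    { app := app
      comm := fun {η' η} ψ g hg => by
        subst hg
        apply Scheme.Modules.hom_ext
        intro U
        refine ConcreteCategory.hom_ext _ _ fun (s : Γ(G.obj η, U)) => ?_
        refine (huniq η' (StMod.bmap 𝒴 ψ ⁻¹ᵁ U) ((G.map ψ rfl).app U s) ((G'.map ψ rfl).app U (f η U s))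
          fun x k W h => ?_).symm
        have h' : W ≤ StMod.bmap 𝒴 (k ≫ ψ) ⁻¹ᵁ U := by rw [StMod.bmap_comp]; exact h
        have e : ∀ (H : StMod.Mod 𝒴) (t : Γ(H.obj η, U)),
            pb H k W h ((H.map ψ rfl).app U t) = pb H (k ≫ ψ) W h' t := fun H t => by
          refine Eq.trans ?_ (pb_pb H k ψ W (V := StMod.bmap 𝒴 ψ ⁻¹ᵁ U) le_rfl h h' t)
          exact congrArg (pb H k W h) (res_self _ le_rfl _).symm
        rw [e, e, hf] }
  refine ⟨u, StMod.Mod.hom_ext fun x => ?_⟩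
  rw [StMod.Mod.comapMap_app, ← hw x]
  congr 1
  apply Scheme.Modules.hom_ext
  intro U
  refine ConcreteCategory.hom_ext _ _ fun (s : Γ(G.obj (π.obj x), U)) => ?_
  have hU : U ≤ StMod.bmap 𝒴 (𝟙 (π.obj x)) ⁻¹ᵁ U := by rw [StMod.bmap_id]; exact le_rfl
  have := hf (π.obj x) U s x (𝟙 _) U hU
  rw [pb_id G' hU le_rfl, pb_id G hU le_rfl, res_self, res_self] at this
  exact this

/-- Inverse image along a local equivalence is fully faithful on quasi-coherent modules. -/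
theorem comapQ_full_faithful (L : LocEquiv π) :
    (StMod.comapQ π).Full ∧ (StMod.comapQ π).Faithful := by
  refine ⟨⟨fun {G G'} v => ?_⟩, ⟨fun {G G'} u v h => ?_⟩⟩
  · obtain ⟨u, hu⟩ := comap_full L (G := G.obj) G'.property v.hom
    exact ⟨ObjectProperty.homMk u, InducedCategory.hom_ext hu⟩
  · exact InducedCategory.hom_ext (comap_faithful L G'.property.1 _ _
      (congrArg (fun m : (StMod.comapQ π).obj G ⟶ (StMod.comapQ π).obj G' => m.hom) h))

/-- An invariant quasi-coherent module descends along a local equivalence. -/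
theorem exists_descent (L : LocEquiv π) (F : StMod.QCoh 𝒳) (hI : Invariant π F.obj) :
    ∃ G : StMod.QCoh 𝒴, Nonempty (F ≅ (StMod.comapQ π).obj G) := by
  haveI := hasPush L F.property.1
  obtain ⟨i⟩ := nonempty_comap_push_iso L F.property hI
  exact ⟨⟨push π F.obj, isQCoh_push L F.property hI⟩, ⟨(StMod.isQCoh 𝒳).isoMk i.symm⟩⟩

end Groth.Agent.StDesc
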