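import Groth.Agent.StDesc.PushGlue
import Groth.Prelude.Def_TwSh

/-!
Twisted modules on a banded gerbe: two morphisms with the same image differ by the character.
-/

set_option autoImplicit false
set_option linter.style.haveILetI false
set_option linter.unusedSectionVars false
set_option backward.isDefEq.respectTransparency false
set_option backward.isDefEq.respectTransparency.types false

universe u

open CategoryTheory CategoryTheory.Limits AlgebraicGeometry TopologicalSpace Opposite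
open Groth.Agent.QCoh

noncomputable section

namespace Groth.Agent.StDesc

variable {S : Scheme.{u}} {𝒳 𝒴 : AlgSt.Cat S} {π : 𝒳 ⥤ᵇ 𝒴} {A : (Over S)ᵒᵖ ⥤ GrpCat.{u}}
  {ι : TwSh.BandHom 𝒳 A}

theorem bmap_eq_of_map_eq {x' x : 𝒳.obj} {a b : x' ⟶ x} (h : π.map a = π.map b) :
    StMod.bmap 𝒳 a = StMod.bmap 𝒳 b :=
  congrArg CommaMorphism.left (StFib.map_eq_map_of_p π a b h)

theorem isLocEquiv_of_banded (h𝒳 : FibCat.IsFibGrpd 𝒳.p) (h𝒴 : FibCat.IsFibGrpd 𝒴.p)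
    (hπ : TwSh.IsBandedGerbe (QuotSh.J Scheme.fppfPrecoverage S) π ι) : LocEquiv π :=
  ⟨h𝒳, h𝒴, hπ.1.1, hπ.1.2⟩

/-- Morphisms with the same image in the base differ by an element of the band. -/
theorem exists_band (h𝒳 : FibCat.IsFibGrpd 𝒳.p) (h𝒴 : FibCat.IsFibGrpd 𝒴.p)
    (hπ : TwSh.IsBandedGerbe (QuotSh.J Scheme.fppfPrecoverage S) π ι) {x' x : 𝒳.obj} (a b : x' ⟶ x)
    (h : π.map a = π.map b) : ∃ c : A.obj (op (𝒳.p.obj x')), (ι.hom x' c).hom.1 ≫ b = a := by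
  have hp : 𝒳.p.map a = 𝒳.p.map b := StFib.map_eq_map_of_p π a b h
  obtain ⟨α, hα, hαb⟩ := StFib.grpd_exists_fac h𝒳 b a (𝟙 _) (by rw [Category.id_comp, hp])
  haveI : IsIso (𝒳.p.map α) := by rw [hα]; infer_instance
  haveI := StFib.grpd_isIso h𝒳 α
  have h1 : 𝒳.p.IsHomLift (𝟙 (𝒳.p.obj x')) α := IsHomLift.of_fac' _ _ _ rfl rfl (by simp [hα])
  have h2 : 𝒳.p.IsHomLift (𝟙 (𝒳.p.obj x')) (inv α) :=
    IsHomLift.of_fac' _ _ _ rfl rfl (by simp [hα])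
  let A₀ : Gerb.AutO x' :=
    { hom := ⟨α, h1⟩
      inv := ⟨inv α, h2⟩
      hom_inv_id := Subtype.ext (IsIso.hom_inv_id α)
      inv_hom_id := Subtype.ext (IsIso.inv_hom_id α) }
  have hπα : π.map α = 𝟙 _ := by
    refine hom_ext_bmap h𝒴 (π.map b) ?_ ?_
    · rw [← π.toFunctor.map_comp, hαb, Category.id_comp]
      exact h
    · have h3 : StMod.bmap 𝒳 α = 𝟙 _ := congrArg CommaMorphism.left hα
      have h4 : 𝒳.p.map α = 𝒳.p.map (𝟙 x') := by rw [hα, CategoryTheory.Functor.map_id]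
      have h5 : 𝒴.p.map (π.map α) = 𝒴.p.map (π.map (𝟙 x')) := by
        rw [StFib.w_map, StFib.w_map, h4]
      rw [π.toFunctor.map_id] at h5
      exact congrArg CommaMorphism.left h5
  have hm : A₀ ∈ (Gerb.autMap π x').ker := Aut.ext (Subtype.ext hπα)
  rw [← (hπ.2 x').2] at hm
  obtain ⟨c, hc⟩ := hm
  exact ⟨c, by rw [hc]; exact hαb⟩

/-- On a twisted module morphisms with the same image act the same up to the character. -/
theorem exists_pb_eq_smul (h𝒳 : FibCat.IsFibGrpd 𝒳.p) (h𝒴 : FibCat.IsFibGrpd 𝒴.p)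
    (hπ : TwSh.IsBandedGerbe (QuotSh.J Scheme.fppfPrecoverage S) π ι) {χ : A ⟶ TwSh.GmPsh S} {d : ℤ}
    {F : StMod.Mod 𝒳} (hF : TwSh.IsTwisted F ι χ d) {x' x : 𝒳.obj} (a b : x' ⟶ x)
    (h : π.map a = π.map b) :
    ∃ c : A.obj (op (𝒳.p.obj x')), (ι.hom x' c).hom.1 ≫ b = a ∧
      ∀ {U : (StMod.sch 𝒳 x).Opens} (V : (StMod.sch 𝒳 x').Opens) (ha : V ≤ StMod.bmap 𝒳 a ⁻¹ᵁ U)
        (hb : V ≤ StMod.bmap 𝒳 b ⁻¹ᵁ U) (s : Γ(F.obj x, U)),
        pb F a V ha s =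
          TwSh.resTop (StMod.sch 𝒳 x') V ((TwSh.charUnit χ x' c ^ d)⁻¹).val • pb F b V hb s := by
  obtain ⟨c, hc⟩ := exists_band h𝒳 h𝒴 hπ a b h
  refine ⟨c, hc, fun {U} V ha hb s => ?_⟩
  rw [← hF x' c V (pb F b V hb s), TwSh.inert_app_apply]
  have hV : V ≤ StMod.bmap 𝒳 (ι.hom x' c).hom.1 ⁻¹ᵁ V := by rw [TwSh.bmap_autO]; exact le_rfl
  have hV' : V ≤ StMod.bmap 𝒳 ((ι.hom x' c).hom.1 ≫ b) ⁻¹ᵁ U := by rw [hc]; exact ha
  rw [pb_congr F hc.symm, ← pb_pb F _ b V hb hV hV']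
  have key : ∀ {g : StMod.sch 𝒳 x' ⟶ StMod.sch 𝒳 x'} (hg : StMod.bmap 𝒳 (ι.hom x' c).hom.1 = g)
      (hVg : V ≤ g ⁻¹ᵁ V) (t : Γ(F.obj x', V)),
      pb F (ι.hom x' c).hom.1 V hV t = res (F.obj x') hVg ((F.map (ι.hom x' c).hom.1 hg).app V t) := by
    intro g hg hVg t; subst hg; rfl
  exact (key (TwSh.bmap_autO x' _) le_rfl _).trans (res_self _ le_rfl _)

/-- A 0-fold twisted module is invariant. -/
theorem invariant_of_twisted_zero (h𝒳 : FibCat.IsFibGrpd 𝒳.p) (h𝒴 : FibCat.IsFibGrpd 𝒴.p)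
    (hπ : TwSh.IsBandedGerbe (QuotSh.J Scheme.fppfPrecoverage S) π ι) {χ : A ⟶ TwSh.GmPsh S}
    {F : StMod.Mod 𝒳} (hF : TwSh.IsTwisted F ι χ 0) : Invariant π F := by
  intro x' x a b h U V ha hb s
  obtain ⟨c, -, hc⟩ := exists_pb_eq_smul h𝒳 h𝒴 hπ hF a b h
  rw [hc V ha hb s, zpow_zero, inv_one, Units.val_one, map_one, one_smul]

end Groth.Agent.StDesc
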