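import Groth.Agent.StDesc.Section

/-!
Twisted quasi-coherent modules on a banded gerbe with a section are the quasi-coherent modules on the base.
-/

set_option autoImplicit false
set_option linter.style.haveILetI false
set_option linter.unusedSectionVars false
set_option backward.isDefEq.respectTransparency false
set_option backward.isDefEq.respectTransparency.types false

universe u

open CategoryTheory CategoryTheory.Limits AlgebraicGeometry TopologicalSpace Opposite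
open Groth.Agent.QCoh

noncomputable section

namespace Groth.Agent.StDesc

variable {S : Scheme.{u}} {X : Over S} {𝒳 : AlgSt.Cat S} (σ : AlgSt.ofSch X ⥤ᵇ 𝒳)
  {π : 𝒳 ⥤ᵇ AlgSt.ofSch X} {A : (Over S)ᵒᵖ ⥤ GrpCat.{u}} {ι : TwSh.BandHom 𝒳 A}

theorem comap_secIncl_map (G : StMod.Mod 𝒳) {y' y : (secCat σ).obj} (φ : y' ⟶ y) :
    (StMod.Mod.comap (secIncl σ) G).map φ (g := StMod.bmap (secCat σ) φ) rfl = G.map φ.hom rfl :=
  StMod.castMap_rfl_self (g := StMod.bmap 𝒳 φ.hom) (by simp) _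

theorem pb_secIncl (G : StMod.Mod 𝒳) {y' y : (secCat σ).obj} (φ : y' ⟶ y)
    {U : (StMod.sch (secCat σ) y).Opens} (V : (StMod.sch (secCat σ) y').Opens)
    (h : V ≤ StMod.bmap (secCat σ) φ ⁻¹ᵁ U) (s : Γ(G.obj (σ.obj y), U)) :
    pb (StMod.Mod.comap (secIncl σ) G) φ V h s = pb G φ.hom V h s := by
  show res _ h (((StMod.Mod.comap (secIncl σ) G).map φ rfl).app U s) = _
  rw [comap_secIncl_map]
  rfl

variable (h𝒳 : FibCat.IsFibGrpd 𝒳.p) (hπ : TwSh.IsBandedGerbe (QuotSh.J Scheme.fppfPrecoverage S) π ι)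
  (e : BasedFunctor.comp σ π ≅ BasedFunctor.id (AlgSt.ofSch X)) (χ : A ⟶ TwSh.GmPsh S)
include h𝒳 hπ e

theorem full_sec {F G : StMod.Mod 𝒳} (hG : StMod.isQCoh 𝒳 G) (hFt : TwSh.IsTwisted F ι χ 1)
    (hGt : TwSh.IsTwisted G ι χ 1) (v : StMod.Mod.comap σ F ⟶ StMod.Mod.comap σ G) :
    ∃ u : F ⟶ G, StMod.Mod.comapMap σ u = v := by
  choose w hw using fun y : (AlgSt.ofSch X).obj => (castHom_bijective (StMod.sch_obj_eq σ y) (F.obj (σ.obj y))
    (G.obj (σ.obj y))).2 (v.app y)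
  have hψ : ∀ {y' y : (AlgSt.ofSch X).obj} (ψ : y' ⟶ y),
      F.map (σ.map ψ) rfl ≫ (Scheme.Modules.pushforward (StMod.bmap 𝒳 (σ.map ψ))).map (w y') =
        w y ≫ G.map (σ.map ψ) rfl := by
    intro y' y ψ
    have h := v.comm ψ (g := StMod.bmap (AlgSt.ofSch X) ψ) rfl
    rw [← hw y', ← hw y] at h
    exact castMap_castHom _ _ _ _ _ h
  have hpb : ∀ {y' y : (AlgSt.ofSch X).obj} (ψ : y' ⟶ y) {U : (StMod.sch 𝒳 (σ.obj y)).Opens}
      (V : (StMod.sch 𝒳 (σ.obj y')).Opens) (h : V ≤ StMod.bmap 𝒳 (σ.map ψ) ⁻¹ᵁ U) (s : Γ(F.obj (σ.obj y), U)),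
      pb G (σ.map ψ) V h ((w y).app U s) = (w y').app V (pb F (σ.map ψ) V h s) := by
    intro y' y ψ U V h s
    rw [pb_apply, pb_apply, app_res]
    exact congrArg (res (G.obj _) h)
      (congrArg (fun f => (ConcreteCategory.hom f) s)
        (congrArg (fun f => Scheme.Modules.Hom.app f U) (hψ ψ))).symm
  let v' : StMod.Mod.comap (secIncl σ) F ⟶ StMod.Mod.comap (secIncl σ) G :=
    { app := fun y => w y
      comm := fun {y' y} m g hg => by
        subst hg
        rw [comap_secIncl_map, comap_secIncl_map]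
        apply Scheme.Modules.hom_ext
        intro U
        refine ConcreteCategory.hom_ext _ _ fun (s : Γ(F.obj (σ.obj y), U)) => ?_
        obtain ⟨ψ, c, hc⟩ := exists_decomp σ h𝒳 hπ e m.hom
        have ha : StMod.bmap 𝒳 m.hom ⁻¹ᵁ U ≤
            StMod.bmap 𝒳 ((ι.hom (σ.obj y') c).hom.1 ≫ σ.map ψ) ⁻¹ᵁ U := by rw [hc]
        have hb : StMod.bmap 𝒳 m.hom ⁻¹ᵁ U ≤ StMod.bmap 𝒳 (σ.map ψ) ⁻¹ᵁ U := by
          rw [← hc, StMod.bmap_comp, TwSh.bmap_autO, Category.id_comp]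
        have e1 : ∀ (H : StMod.Mod 𝒳) (t : Γ(H.obj (σ.obj y), U)),
            (H.map m.hom rfl).app U t = pb H ((ι.hom (σ.obj y') c).hom.1 ≫ σ.map ψ) _ ha t := fun H t =>
          ((res_self _ le_rfl _).symm.trans (pb_congr H hc.symm _ le_rfl t))
        show (w y').app (StMod.bmap 𝒳 m.hom ⁻¹ᵁ U) ((F.map m.hom rfl).app U s) =
          (G.map m.hom rfl).app U ((w y).app U s)
        rw [e1 F, e1 G, pb_band_comp h𝒳 hπ χ hFt c _ _ ha hb, pb_band_comp h𝒳 hπ χ hGt c _ _ ha hb,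
          Scheme.Modules.Hom.app_smul, hpb] }
  obtain ⟨u, hu⟩ := comap_full (isLocEquiv_secIncl σ h𝒳 hπ e) hG v'
  refine ⟨u, StMod.Mod.hom_ext fun y => ?_⟩
  rw [StMod.Mod.comapMap_app, ← hw y]
  congr 1
  exact congrArg (fun k : StMod.Mod.comap (secIncl σ) F ⟶ StMod.Mod.comap (secIncl σ) G => k.app y) hu

theorem faithful_sec {F G : StMod.Mod 𝒳} (hG : G.IsCartesian) (u v : F ⟶ G)
    (h : StMod.Mod.comapMap σ u = StMod.Mod.comapMap σ v) : u = v := by
  refine comap_faithful (isLocEquiv_secIncl σ h𝒳 hπ e) hG u v (StMod.Mod.hom_ext fun y => ?_)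
  show u.app (σ.obj y) = v.app (σ.obj y)
  exact (castHom_bijective (StMod.sch_obj_eq σ y) _ _).1 (congrArg (fun k : StMod.Mod.comap σ F ⟶ StMod.Mod.comap σ G => k.app y) h)

/-- On a module over the values of the section coming from the base, the band acts trivially; after
twisting it acts through the character. -/
theorem pb_twist_band (G₀ : StMod.Mod (AlgSt.ofSch X)) {y : (secCat σ).obj}
    (c : A.obj (op (𝒳.p.obj (σ.obj y)))) {U : (StMod.sch (secCat σ) y).Opens}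
    (h : U ≤ StMod.bmap (secCat σ) (InducedCategory.homMk (ι.hom (σ.obj y) c).hom.1 : y ⟶ y) ⁻¹ᵁ U)
    (s : Γ((StMod.Mod.comap (BasedFunctor.comp (secIncl σ) π) G₀).obj y, U)) :
    pb (twistMod (StMod.Mod.comap (BasedFunctor.comp (secIncl σ) π) G₀) (secCocycle σ h𝒳 hπ e χ))
        (InducedCategory.homMk (ι.hom (σ.obj y) c).hom.1 : y ⟶ y) U h s =
      TwSh.resTop (StMod.sch (secCat σ) y) U ((TwSh.charUnit χ (σ.obj y) c)⁻¹).val • s := by
  let α : y ⟶ y := InducedCategory.homMk (ι.hom (σ.obj y) c).hom.1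
  let P := StMod.Mod.comap (BasedFunctor.comp (secIncl σ) π) G₀
  have hval : (secCocycle σ h𝒳 hπ e χ).val α = (TwSh.charUnit χ (σ.obj y) c)⁻¹ :=
    secCocycle_val σ h𝒳 hπ e χ α (𝟙 (show (AlgSt.ofSch X).obj from y)) c (by
      erw [σ.toFunctor.map_id]
      exact Category.comp_id _)
  rw [pb_twistMod, hval]
  congr 1
  have hb : StMod.bmap (secCat σ) α = 𝟙 _ := TwSh.bmap_autO (σ.obj y) (ι.hom (σ.obj y) c)
  have hαπ : (BasedFunctor.comp (secIncl σ) π).map α = (BasedFunctor.comp (secIncl σ) π).map (𝟙 y) := by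
    rw [CategoryTheory.Functor.map_id]
    exact TwSh.IsBandedGerbe.map_hom_eq_id π hπ (σ.obj y) c
  have key : ∀ {g : StMod.sch (secCat σ) y ⟶ StMod.sch (secCat σ) y} (hg : StMod.bmap (secCat σ) α = g)
      (hU : U ≤ g ⁻¹ᵁ U), pb P α U h s = res (P.obj y) hU ((P.map α hg).app U s) := by
    intro g hg hU; subst hg; rfl
  refine (key hb le_rfl).trans ((res_self _ le_rfl _).trans ?_)
  refine (congrArg (fun m : P.obj y ⟶ (Scheme.Modules.pushforward (𝟙 (StMod.sch (secCat σ) y))).obj (P.obj y) =>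
    m.app U s) (comap_map_congr (BasedFunctor.comp (secIncl σ) π) G₀ hαπ hb (StMod.bmap_id y))).trans ?_
  exact congrArg (fun f => (ConcreteCategory.hom f) s) (StMod.Mod.map_id_app P y U)

/-- Twistedness is detected on the values of the section. -/
theorem isTwisted_of_sec {F : StMod.Mod 𝒳} (hF : F.IsCartesian)
    (h : ∀ (y : (AlgSt.ofSch X).obj) (c : A.obj (op (𝒳.p.obj (σ.obj y)))) (U : (StMod.sch 𝒳 (σ.obj y)).Opens)
      (hU : U ≤ StMod.bmap 𝒳 (ι.hom (σ.obj y) c).hom.1 ⁻¹ᵁ U) (s : Γ(F.obj (σ.obj y), U)),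
      pb F (ι.hom (σ.obj y) c).hom.1 U hU s =
        TwSh.resTop (StMod.sch 𝒳 (σ.obj y)) U ((TwSh.charUnit χ (σ.obj y) c)⁻¹).val • s) :
    TwSh.IsTwisted F ι χ 1 := by
  intro ξ a U s
  have L := isLocEquiv_secIncl σ h𝒳 hπ e
  rw [zpow_one]
  refine ext_flat hF _ _ fun z _ => ?_
  obtain ⟨y, b, h1, -, ⟨q, hq⟩⟩ := exists_cover L ξ z
  haveI := bO_id (secIncl σ) y
  haveI := h1
  refine ⟨σ.obj y, b, ?_, ?_, ?_⟩
  · rw [show StMod.bmap 𝒳 b = inv (bO (secIncl σ) (𝟙 ((secIncl σ).obj y))) ≫ bO (secIncl σ) b by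
      rw [bO_one_comp b, IsIso.inv_hom_id_assoc]]
    infer_instance
  · rw [bO_one_comp] at hq
    exact ⟨_, hq⟩
  change (AlgSt.ofSch X).obj at y
  change σ.obj y ⟶ ξ at b
  set α := (ι.hom ξ a).hom.1
  have hαU : U ≤ StMod.bmap 𝒳 α ⁻¹ᵁ U := by rw [TwSh.bmap_autO]; exact le_rfl
  have e0 : (TwSh.inert F ξ (ι.hom ξ a)).app U s = pb F α U hαU s := by
    have key : ∀ {g : StMod.sch 𝒳 ξ ⟶ StMod.sch 𝒳 ξ} (hg : StMod.bmap 𝒳 α = g)
        (hU : U ≤ g ⁻¹ᵁ U), pb F α U hαU s = res (F.obj ξ) hU ((F.map α hg).app U s) := by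
      intro g hg hU; subst hg; rfl
    rw [key (TwSh.bmap_autO ξ _) le_rfl]
    exact (res_self _ le_rfl _).symm
  set W := StMod.bmap 𝒳 b ⁻¹ᵁ U
  set c := A.map (𝒳.p.map b).op a
  have hn : (ι.hom (σ.obj y) c).hom.1 ≫ b = b ≫ α := ι.natural b a
  have h2 : W ≤ StMod.bmap 𝒳 (b ≫ α) ⁻¹ᵁ U := by
    rw [StMod.bmap_comp, TwSh.bmap_autO, Category.comp_id]
  have h3 : W ≤ StMod.bmap 𝒳 (ι.hom (σ.obj y) c).hom.1 ⁻¹ᵁ W := by rw [TwSh.bmap_autO]; exact le_rfl
  rw [e0, pb_pb F b α W hαU le_rfl h2, pb_congr F hn.symm,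
    ← pb_pb F _ b W le_rfl h3 (hn ▸ h2), h y c W h3, pb_smul, appLE_resTop]
  congr 2
  show ((TwSh.charUnit χ (σ.obj y) c)⁻¹).val =
    (Units.map (StMod.bmap 𝒳 b).appTop.hom.toMonoidHom ((TwSh.charUnit χ ξ a)⁻¹)).val
  rw [map_inv]
  exact congrArg (fun u : Γ(StMod.sch 𝒳 (σ.obj y), ⊤)ˣ => u⁻¹.val)
    (congrArg (fun f => (ConcreteCategory.hom f) a) (χ.naturality (𝒳.p.map b).op))

theorem exists_twisted (G₀ : StMod.QCoh (AlgSt.ofSch X)) :
    ∃ F : StMod.QCoh 𝒳, TwSh.IsTwisted F.obj ι χ 1 ∧ Nonempty ((StMod.comapQ σ).obj F ≅ G₀) := by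
  let f := BasedFunctor.comp (secIncl σ) π
  let P := StMod.Mod.comap f G₀.obj
  let c := secCocycle σ h𝒳 hπ e χ
  let H := twistMod P c
  have hH : StMod.isQCoh (secCat σ) H := isQCoh_twistMod c (StMod.isQCoh_comap G₀.property)
  have L := isLocEquiv_secIncl σ h𝒳 hπ e
  have hI : Invariant (secIncl σ) H := fun x' x a b hab U V ha hb s =>
    pb_congr H (InducedCategory.hom_ext hab : a = b) V ha s
  obtain ⟨F, ⟨iF⟩⟩ := exists_descent L ⟨H, hH⟩ hI
  let i : StMod.Mod.comap (secIncl σ) F.obj ≅ H := ((StMod.isQCoh _).ι.mapIso iF).symm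
  refine ⟨F, isTwisted_of_sec σ h𝒳 hπ e χ F.property.1 fun y a U hU s => ?_, ?_⟩
  · let α : (show (secCat σ).obj from y) ⟶ y := InducedCategory.homMk (ι.hom (σ.obj y) a).hom.1
    have hinj : Function.Injective ((i.hom.app y).app U) := fun p q h => by
      have := congrArg ((i.inv.app y).app U) h
      rwa [show (i.inv.app y).app U ((i.hom.app y).app U p) = p from
          congrArg (fun k : StMod.Mod.comap (secIncl σ) F.obj ⟶ _ => (k.app y).app U p) i.hom_inv_id,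
        show (i.inv.app y).app U ((i.hom.app y).app U q) = q from
          congrArg (fun k : StMod.Mod.comap (secIncl σ) F.obj ⟶ _ => (k.app y).app U q) i.hom_inv_id] at this
    apply hinj
    refine ((congrArg ((i.hom.app y).app U) (pb_secIncl σ F.obj α U hU s).symm).trans
      (pb_hom _ i.hom α U hU s)).trans ?_
    refine (pb_twist_band σ h𝒳 hπ e χ G₀.obj a hU _).trans ?_
    exact (Scheme.Modules.Hom.app_smul (i.hom.app y) _ _).symm
  · let J := secFun σ
    obtain ⟨j⟩ := nonempty_comap_iso_self (ofSch_fib (X := X)) e G₀.obj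
    let t : StMod.Mod.comap J H ≅ StMod.Mod.comap J P :=
      StMod.Mod.isoMk (fun y => Iso.refl _) fun y' y φ g hg => by
        have hval : c.val (J.map φ) = 1 := by
          have h1 := secCocycle_val σ h𝒳 hπ e χ (J.map φ) φ 1 (by
            rw [map_one]; exact Category.id_comp _)
          rw [h1]
          exact inv_eq_one.2 (map_one (χ.app (op (𝒳.p.obj (σ.obj y')))).hom)
        have hmap : H.map (J.map φ) rfl = P.map (J.map φ) (g := StMod.bmap (secCat σ) (J.map φ)) rfl := by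
          show P.map (J.map φ) rfl ≫ _ = _
          rw [hval]
          have : TwSh.scalarEnd (P.obj (J.obj y')) ((1 : Γ(StMod.sch (secCat σ) (J.obj y'), ⊤)ˣ).val) = 𝟙 _ := by
            apply Scheme.Modules.hom_ext
            intro U
            refine ConcreteCategory.hom_ext _ _ fun s => ?_
            rw [TwSh.scalarEnd_app_apply, Units.val_one, map_one, one_smul]
            rfl
          rw [this, CategoryTheory.Functor.map_id]
          exact Category.comp_id _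
        rw [StMod.Mod.comap_map, StMod.Mod.comap_map, hmap, Iso.refl_hom, Iso.refl_hom,
          CategoryTheory.Functor.map_id]
        exact (Category.comp_id _).trans (Category.id_comp _).symm
    exact ⟨(StMod.isQCoh _).isoMk
      (StMod.comapCompIso (secIncl σ) J F.obj ≪≫ (StMod.comapFunctor J).mapIso i ≪≫ t ≪≫
        (StMod.comapCompIso f J G₀.obj).symm ≪≫ j)⟩

/-- Inverse image along a section identifies twisted quasi-coherent modules with those on the base. -/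
theorem isEquivalence_sec :
    ((TwSh.isTwistedQ 𝒳 ι χ 1).ι ⋙ StMod.comapQ σ).IsEquivalence where
  faithful := ⟨fun {F G} u v h => by
    refine InducedCategory.hom_ext (InducedCategory.hom_ext ?_)
    exact faithful_sec σ h𝒳 hπ e G.obj.property.1 u.hom.hom v.hom.hom
      (congrArg (fun m : (StMod.comapQ σ).obj F.obj ⟶ (StMod.comapQ σ).obj G.obj => m.hom) h)⟩
  full := ⟨fun {F G} v => by
    obtain ⟨u, hu⟩ := full_sec σ h𝒳 hπ e χ G.obj.property F.property G.property v.hom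
    exact ⟨ObjectProperty.homMk (ObjectProperty.homMk u), InducedCategory.hom_ext hu⟩⟩
  essSurj := ⟨fun G₀ => by
    obtain ⟨F, hF, hi⟩ := exists_twisted σ h𝒳 hπ e χ G₀
    exact ⟨⟨F, hF⟩, hi⟩⟩

end Groth.Agent.StDesc
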