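import Mathlib.RingTheory.Flat.FaithfullyFlat.Basic
import Mathlib.RingTheory.IsTensorProduct

/-!
Algebra of faithfully flat descent of modules: the Amitsur complex in degree zero, effectivity in
kernel form, and base change of modules along pushouts of rings.
-/

set_option autoImplicit false
set_option linter.style.haveILetI false

open TensorProduct Function

namespace Groth.Agent.StDesc

variable {R : Type*} [CommRing R] (B : Type*) [CommRing B] [Algebra R B]

/-- An element of `B ⊗ M` with the same images under the two maps to `(B ⊗ B) ⊗ M` comes from `M`. -/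
theorem exists_one_tmul [Module.FaithfullyFlat R B] {M : Type*} [AddCommGroup M] [Module R M]
    (x : B ⊗[R] M)
    (h : (Algebra.TensorProduct.includeLeft : B →ₐ[R] B ⊗[R] B).toLinearMap.rTensor M x =
      (Algebra.TensorProduct.includeRight : B →ₐ[R] B ⊗[R] B).toLinearMap.rTensor M x) :
    ∃ m : M, 1 ⊗ₜ[R] m = x := by
  let i : M →ₗ[R] B ⊗[R] M := TensorProduct.mk R B M 1
  let l := (Algebra.TensorProduct.includeLeft : B →ₐ[R] B ⊗[R] B).toLinearMap.rTensor M
  let r := (Algebra.TensorProduct.includeRight : B →ₐ[R] B ⊗[R] B).toLinearMap.rTensor M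
  have hex : Exact i (r - l) := by
    refine (Module.FaithfullyFlat.lTensor_exact_iff_exact R B i (r - l)).1 fun y => ⟨fun hy => ?_, ?_⟩
    · let μ : B ⊗[R] (B ⊗[R] M) →ₗ[R] B ⊗[R] M :=
        (LinearMap.mul' R B).rTensor M ∘ₗ (TensorProduct.assoc R B B M).symm.toLinearMap
      let σ : B ⊗[R] ((B ⊗[R] B) ⊗[R] M) →ₗ[R] B ⊗[R] (B ⊗[R] M) :=
        (LinearMap.mul' R B).rTensor (B ⊗[R] M) ∘ₗ
          (TensorProduct.assoc R B B (B ⊗[R] M)).symm.toLinearMap ∘ₗ
            (TensorProduct.assoc R B B M).toLinearMap.lTensor B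
      have key : ∀ z : B ⊗[R] (B ⊗[R] M), σ ((r - l).lTensor B z) + i.lTensor B (μ z) = z := by
        intro z
        induction z using TensorProduct.induction_on with
        | zero => simp
        | tmul b w =>
          induction w using TensorProduct.induction_on with
          | zero => simp
          | tmul c m => simp [i, r, l, σ, μ, TensorProduct.tmul_sub]
          | add w w' hw hw' =>
            simp only [TensorProduct.tmul_add, map_add]
            conv_rhs => rw [← hw, ← hw']
            abel
        | add z z' hz hz' =>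
          simp only [map_add]
          conv_rhs => rw [← hz, ← hz']
          abel
      refine ⟨μ y, ?_⟩
      have := key y
      rwa [hy, map_zero, zero_add] at this
    · rintro ⟨w, rfl⟩
      rw [← LinearMap.comp_apply, ← LinearMap.lTensor_comp]
      have : (r - l) ∘ₗ i = 0 := by
        ext m
        simp [i, r, l, Algebra.TensorProduct.one_def]
      rw [this, LinearMap.lTensor_zero, LinearMap.zero_apply]
  obtain ⟨m, hm⟩ := (hex x).1 (by rw [LinearMap.sub_apply, sub_eq_zero]; exact h.symm)
  exact ⟨m, hm⟩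

/-- Effective descent in kernel form: if `M` is the equalizer of `d₁, d₂ : N ⇉ N₂`, where `N₂` is
`B ⊗ N` and the cocycle condition holds in `N₃ ⊇ B ⊗ N₂`, then `B ⊗ M = N`. -/
theorem isBaseChange_of_descent [Module.Flat R B] {M N N₂ N₃ : Type*} [AddCommGroup M] [Module R M]
    [AddCommGroup N] [Module R N] [Module B N] [IsScalarTower R B N]
    [AddCommGroup N₂] [Module R N₂] [AddCommGroup N₃] [Module R N₃]
    (ι : M →ₗ[R] N) (d₁ d₂ : N →ₗ[R] N₂) (hι : Injective ι) (hex : ∀ n, d₁ n = d₂ n → ∃ m, ι m = n)
    (hd : Injective d₁) (Ψ₂ : B ⊗[R] N →ₗ[R] N₂) (hΨ₂ : Bijective Ψ₂)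
    (Ψ₃ : B ⊗[R] N₂ →ₗ[R] N₃) (hΨ₃ : Injective Ψ₃) (P₁₂ P₁₃ : N₂ →ₗ[R] N₃)
    (h₁ : ∀ (b : B) (m : M), d₁ (b • ι m) = Ψ₂ (b ⊗ₜ[R] ι m))
    (c₁₂ : ∀ y, Ψ₃ (d₁.lTensor B y) = P₁₂ (Ψ₂ y)) (c₁₃ : ∀ y, Ψ₃ (d₂.lTensor B y) = P₁₃ (Ψ₂ y))
    (hc : ∀ n, P₁₂ (d₁ n) = P₁₃ (d₁ n)) : IsBaseChange B ι := by
  have key : ∀ z : B ⊗[R] M, d₁ (ι.liftBaseChange B z) = Ψ₂ (ι.lTensor B z) := by
    intro z
    induction z using TensorProduct.induction_on with
    | zero => simp
    | tmul b m => simp [h₁]
    | add z z' hz hz' => simp [hz, hz']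
  have hbij : Bijective (ι.liftBaseChange B) := by
    refine ⟨fun z z' e => ?_, fun n => ?_⟩
    · apply Module.Flat.lTensor_preserves_injective_linearMap (M := B) ι hι
      apply hΨ₂.1
      rw [← key, ← key, e]
    · obtain ⟨y, hy⟩ := hΨ₂.2 (d₁ n)
      have hk : (d₁ - d₂).lTensor B y = 0 := by
        apply hΨ₃
        rw [LinearMap.lTensor_sub, LinearMap.sub_apply, map_sub, c₁₂, c₁₃, hy, hc, sub_self, map_zero]
      have hle : LinearMap.ker (d₁ - d₂) ≤ LinearMap.range ι := fun n hn => by
        rw [LinearMap.mem_ker, LinearMap.sub_apply, sub_eq_zero] at hn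
        exact hex n hn
      obtain ⟨w, hw⟩ := ((Module.Flat.lTensor_exact B
        (LinearMap.exact_subtype_ker_map (d₁ - d₂))) y).1 hk
      have hmem : ∀ w : B ⊗[R] (LinearMap.ker (d₁ - d₂)), ∃ z : B ⊗[R] M,
          ι.lTensor B z = (LinearMap.ker (d₁ - d₂)).subtype.lTensor B w := by
        intro w
        induction w using TensorProduct.induction_on with
        | zero => exact ⟨0, by simp⟩
        | tmul b k =>
          obtain ⟨m, hm⟩ := hle k.2
          exact ⟨b ⊗ₜ m, by simp [hm]⟩
        | add w w' hw hw' =>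
          obtain ⟨z, hz⟩ := hw
          obtain ⟨z', hz'⟩ := hw'
          exact ⟨z + z', by simp [hz, hz']⟩
      obtain ⟨z, hz⟩ := hmem w
      refine ⟨z, hd ?_⟩
      rw [key, hz, hw, hy]
  exact IsBaseChange.of_equiv (LinearEquiv.ofBijective _ hbij) fun m => by simp

/-- If `C` is the pushout of `R → D` and `R → B` and `d : Q → Q'` is a base change along `D → C`, then
`b ⊗ q ↦ b • d q` identifies `B ⊗[R] Q` with `Q'`. -/
theorem bijective_pushout_smul {D C : Type*} [CommRing D] [CommRing C] [Algebra R D] [Algebra R C]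
    [Algebra B C] [Algebra D C] [IsScalarTower R B C] [IsScalarTower R D C] [Algebra.IsPushout R B D C]
    {Q Q' : Type*} [AddCommGroup Q] [Module R Q] [Module D Q] [IsScalarTower R D Q] [AddCommGroup Q']
    [Module C Q'] [Module D Q'] [IsScalarTower D C Q'] (d : Q →ₗ[D] Q') (hd : IsBaseChange C d)
    (f : B ⊗[R] Q → Q') (hf0 : f 0 = 0) (hadd : ∀ a b, f (a + b) = f a + f b)
    (hf : ∀ b q, f (b ⊗ₜ q) = algebraMap B C b • d q) : Bijective f := by
  let e := (Algebra.IsPushout.cancelBaseChange R B D C Q).symm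
  have : f = fun z => hd.equiv (e z) := by
    funext z
    induction z using TensorProduct.induction_on with
    | zero => simp [hf0]
    | tmul b q => simp [e, hf, Algebra.IsPushout.cancelBaseChange_symm_tmul, IsBaseChange.equiv_tmul]
    | add z z' hz hz' => simp [hadd, hz, hz']
  rw [this]
  exact hd.equiv.bijective.comp e.bijective

/-- Being a base change descends along faithfully flat ring maps. -/
theorem isBaseChange_of_faithfullyFlat {R' B' : Type*} [CommRing R'] [CommRing B'] [Algebra R R']
    [Algebra R B'] [Algebra R' B'] [IsScalarTower R R' B'] [Module.FaithfullyFlat R' B']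
    {M M' N' : Type*} [AddCommGroup M] [Module R M] [AddCommGroup M'] [Module R M'] [Module R' M']
    [IsScalarTower R R' M'] [AddCommGroup N'] [Module R N'] [Module R' N'] [Module B' N']
    [IsScalarTower R R' N'] [IsScalarTower R' B' N'] [IsScalarTower R B' N']
    (f : M →ₗ[R] M') (g : M' →ₗ[R'] N') (hg : IsBaseChange B' g)
    (hc : IsBaseChange B' ((g : M' →ₗ[R] N') ∘ₗ f)) : IsBaseChange R' f := by
  let θ : R' ⊗[R] M →ₗ[R'] M' := f.liftBaseChange R'
  let e := TensorProduct.AlgebraTensorModule.cancelBaseChange R R' B' B' M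
  have key : ∀ z, hg.equiv (θ.lTensor B' z) = hc.equiv (e z) := by
    intro z
    induction z using TensorProduct.induction_on with
    | zero => simp
    | tmul b w =>
      induction w using TensorProduct.induction_on with
      | zero => simp
      | tmul r m =>
        simp only [θ, e, LinearMap.lTensor_tmul, LinearMap.liftBaseChange_tmul, IsBaseChange.equiv_tmul,
          TensorProduct.AlgebraTensorModule.cancelBaseChange_tmul, map_smul, LinearMap.comp_apply,
          LinearMap.restrictScalars_apply]
        rw [smul_comm b r, smul_assoc]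
      | add w w' hw hw' => simp only [TensorProduct.tmul_add, map_add, hw, hw']
    | add z z' hz hz' => simp only [map_add, hz, hz']
  have hb : Bijective (θ.lTensor B') := by
    have h : Bijective (hg.equiv ∘ θ.lTensor B') := by
      rw [show (hg.equiv ∘ θ.lTensor B') = fun z => hc.equiv (e z) from funext key]
      exact hc.equiv.bijective.comp e.bijective
    exact (Bijective.of_comp_iff' hg.equiv.bijective _).1 h
  have : Bijective θ := (Module.FaithfullyFlat.lTensor_bijective_iff_bijective R' B' θ).1 hb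
  exact IsBaseChange.of_equiv (LinearEquiv.ofBijective θ this) fun m => by simp [θ]

end Groth.Agent.StDesc
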