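import Groth.Agent.StDesc.Sec
import Groth.Agent.PinchLib.Modules

/-!
Gluing of sections of quasi-coherent modules along flat locally finitely presented families of objects.
-/

set_option autoImplicit false
set_option linter.style.haveILetI false
set_option linter.unusedSectionVars false
set_option backward.isDefEq.respectTransparency false
set_option backward.isDefEq.respectTransparency.types false

universe u

open CategoryTheory CategoryTheory.Limits AlgebraicGeometry TopologicalSpace Opposite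
open scoped TensorProduct
open Groth.Agent.QCoh

noncomputable section

namespace Groth.Agent.StDesc

theorem resLE_val {T X : Scheme.{u}} (g : T ⟶ X) {W : X.Opens} {A : T.Opens} (hle : A ≤ g ⁻¹ᵁ W)
    (z : (A : Scheme.{u})) : (g.resLE W A hle z).1 = g z.1 :=
  congrArg (fun f : (A : Scheme.{u}) ⟶ X => f z) (Scheme.Hom.resLE_comp_ι g hle)

/-- Near every point of the source of a flat locally finitely presented morphism there are affine opens,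
one mapping onto the other. -/
theorem exists_affine_surj {T X : Scheme.{u}} (g : T ⟶ X) [Flat g] [LocallyOfFinitePresentation g]
    (U : X.Opens) (x : T) (hx : g x ∈ U) :
    ∃ (W : X.Opens) (A : T.Opens) (hle : A ≤ g ⁻¹ᵁ W), IsAffineOpen W ∧ IsAffineOpen A ∧ W ≤ U ∧ g x ∈ W ∧
      Surjective (g.resLE W A hle) := by
  obtain ⟨_, ⟨W₀, hW₀, rfl⟩, hxW₀, hW₀U⟩ :=
    X.isBasis_affineOpens.exists_subset_of_mem_open (show g x ∈ (U : Set X) from hx) U.2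
  obtain ⟨_, ⟨A₀, hA₀, rfl⟩, hxA₀, hA₀le⟩ :=
    T.isBasis_affineOpens.exists_subset_of_mem_open (show x ∈ (g ⁻¹ᵁ W₀ : Set T) from hxW₀) (g ⁻¹ᵁ W₀).2
  have : UniversallyOpen g := inferInstance
  let I : X.Opens := ⟨g '' (A₀ : Set T), Scheme.Hom.isOpenMap g _ A₀.2⟩
  obtain ⟨r, hrle, hxr⟩ := hW₀.exists_basicOpen_le ⟨g x, (show g x ∈ I from ⟨x, hxA₀, rfl⟩)⟩ hxW₀
  let A := T.basicOpen (g.appLE W₀ A₀ hA₀le r)
  have hAeq : A = A₀ ⊓ g ⁻¹ᵁ (X.basicOpen r) := by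
    show T.basicOpen _ = _
    rw [Scheme.Hom.appLE, CommRingCat.comp_apply, Scheme.basicOpen_res, Scheme.preimage_basicOpen]
  refine ⟨X.basicOpen r, A, hAeq.le.trans inf_le_right, hW₀.basicOpen r, hA₀.basicOpen _,
    (X.basicOpen_le r).trans hW₀U, hxr, ⟨fun w => ?_⟩⟩
  obtain ⟨z, hzA, hz⟩ := hrle w.2
  have hzA' : z ∈ A := hAeq.ge ⟨hzA, by show g z ∈ X.basicOpen r; rw [hz]; exact w.2⟩
  exact ⟨⟨z, hzA'⟩, Subtype.ext ((resLE_val _ _ _).trans hz)⟩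

variable {S : Scheme.{u}} {𝒳 : AlgSt.Cat S} {F : StMod.Mod 𝒳}

/-- Sections over an affine open of an object are the global sections over its restriction. -/
theorem bijective_pb_open (hF : StMod.isQCoh 𝒳 F) {ξ' ξ : 𝒳.obj} (φ : ξ' ⟶ ξ)
    {W : (StMod.sch 𝒳 ξ).Opens} (hW : IsAffineOpen W) (e : StMod.sch 𝒳 ξ' ≅ (W : Scheme.{u}))
    (he : StMod.bmap 𝒳 φ = e.hom ≫ W.ι) (h : ⊤ ≤ StMod.bmap 𝒳 φ ⁻¹ᵁ W) :
    Function.Bijective (pb F φ (U := W) ⊤ h) := by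
  haveI : (F.obj ξ).IsQuasicoherent := hF.2 ξ
  haveI : IsAffine (W : Scheme.{u}) := hW
  haveI : IsAffine (StMod.sch 𝒳 ξ') := .of_isIso e.hom
  let g := StMod.bmap 𝒳 φ
  letI := (g.appLE W ⊤ h).hom.toAlgebra
  letI := Module.compHom Γ(F.obj ξ', ⊤) (g.appLE W ⊤ h).hom
  haveI : IsScalarTower Γ(StMod.sch 𝒳 ξ, W) Γ(StMod.sch 𝒳 ξ', ⊤) Γ(F.obj ξ', ⊤) :=
    IsScalarTower.of_algebraMap_smul fun _ _ => rfl
  let f : Γ(F.obj ξ, W) →ₗ[Γ(StMod.sch 𝒳 ξ, W)] Γ(F.obj ξ', ⊤) :=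
    { toFun := pb F φ ⊤ h
      map_add' := map_add _
      map_smul' := fun r s => pb_smul F φ ⊤ h r s }
  have bc : IsBaseChange Γ(StMod.sch 𝒳 ξ', ⊤) f :=
    isBaseChange_pb hF.1 φ h hW (isAffineOpen_top _) f fun _ => rfl
  have key : ∀ {g : StMod.sch 𝒳 ξ' ⟶ StMod.sch 𝒳 ξ} (_ : g = e.hom ≫ W.ι) (h : ⊤ ≤ g ⁻¹ᵁ W),
      IsIso (g.appLE W ⊤ h) := by
    rintro g rfl h
    have h₁ : (⊤ : (W : Scheme.{u}).Opens) ≤ W.ι ⁻¹ᵁ W := W.ι_preimage_self.ge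
    rw [← Scheme.Hom.appLE_comp_appLE e.hom W.ι W ⊤ ⊤ h₁ le_top, Scheme.Opens.ι_appLE,
      show e.hom.appLE ⊤ ⊤ le_top = e.hom.appTop from (Scheme.Hom.app_eq_appLE _).symm]
    haveI : IsIso ((StMod.sch 𝒳 ξ).presheaf.map (homOfLE (W.ι_image_top.le)).op) := by
      have : IsIso (homOfLE W.ι_image_top.le) := ⟨homOfLE W.ι_image_top.ge, Subsingleton.elim _ _, Subsingleton.elim _ _⟩
      infer_instance
    infer_instance
  haveI := key he h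
  have hb : Function.Bijective (algebraMap Γ(StMod.sch 𝒳 ξ, W) Γ(StMod.sch 𝒳 ξ', ⊤)) :=
    ConcreteCategory.bijective_of_isIso (g.appLE W ⊤ h)
  let a := LinearEquiv.ofBijective (Algebra.linearMap Γ(StMod.sch 𝒳 ξ, W) Γ(StMod.sch 𝒳 ξ', ⊤)) hb
  let ψ := (TensorProduct.lid _ Γ(F.obj ξ, W)).symm ≪≫ₗ TensorProduct.congr a (LinearEquiv.refl _ _) ≪≫ₗ
    bc.equiv.restrictScalars _
  have : (pb F φ (U := W) ⊤ h : Γ(F.obj ξ, W) → Γ(F.obj ξ', ⊤)) = ψ := by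
    funext s
    simp [ψ, a, f, IsBaseChange.equiv_tmul]
  rw [this]
  exact ψ.bijective

theorem range_of_bmap {ξ' ξ : 𝒳.obj} (φ : ξ' ⟶ ξ) {Z : Scheme.{u}} (e : StMod.sch 𝒳 ξ' ≅ Z)
    (f : Z ⟶ StMod.sch 𝒳 ξ) (he : StMod.bmap 𝒳 φ = e.hom ≫ f) (z : Z) :
    f z ∈ Set.range (StMod.bmap 𝒳 φ) := by
  obtain ⟨w, rfl⟩ := e.hom.surjective z
  exact ⟨w, by rw [he]; rfl⟩

/-- Gluing along a flat locally finitely presented family. -/
theorem exists_glue_flat (h𝒳 : FibCat.IsFibGrpd 𝒳.p) (hF : StMod.isQCoh 𝒳 F) {ξ : 𝒳.obj}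
    {U : (StMod.sch 𝒳 ξ).Opens} {κ : Type*} {η : κ → 𝒳.obj} (α : ∀ j, η j ⟶ ξ)
    (hfl : ∀ j, Flat (StMod.bmap 𝒳 (α j))) (hfp : ∀ j, LocallyOfFinitePresentation (StMod.bmap 𝒳 (α j)))
    (hs : ∀ y ∈ U, ∃ j, y ∈ Set.range (StMod.bmap 𝒳 (α j)))
    (t : ∀ j, Γ(F.obj (η j), StMod.bmap 𝒳 (α j) ⁻¹ᵁ U))
    (hc : ∀ (ζ : 𝒳.obj) (j k : κ) (a : ζ ⟶ η j) (b : ζ ⟶ η k), a ≫ α j = b ≫ α k →
      ∀ (V : (StMod.sch 𝒳 ζ).Opens) (ha : V ≤ StMod.bmap 𝒳 a ⁻¹ᵁ (StMod.bmap 𝒳 (α j) ⁻¹ᵁ U))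
        (hb : V ≤ StMod.bmap 𝒳 b ⁻¹ᵁ (StMod.bmap 𝒳 (α k) ⁻¹ᵁ U)),
        pb F a V ha (t j) = pb F b V hb (t k)) :
    ∃ s : Γ(F.obj ξ, U), ∀ j, pb F (α j) _ le_rfl s = t j := by
  have loc : ∀ y : U, ∃ (W : (StMod.sch 𝒳 ξ).Opens) (hWU : W ≤ U), y.1 ∈ W ∧ ∃ s : Γ(F.obj ξ, W),
      ∀ k, pb F (α k) _ le_rfl s = res (F.obj (η k)) ((StMod.bmap 𝒳 (α k)).preimage_mono hWU) (t k) := by
    rintro ⟨y, hy⟩
    obtain ⟨j, x, hx⟩ := hs y hy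
    haveI := hfl j
    haveI := hfp j
    obtain ⟨W, A, hle, hW, hA, hWU, hxW, hsurj⟩ := exists_affine_surj (StMod.bmap 𝒳 (α j)) U x (hx ▸ hy)
    refine ⟨W, hWU, hx ▸ hxW, ?_⟩
    obtain ⟨ξW, iW, eW, hiW⟩ := exists_lift_mor h𝒳 ξ W.ι
    obtain ⟨ηA, iA, eA, hiA⟩ := exists_lift_mor h𝒳 (η j) A.ι
    obtain ⟨α', hα', hα'b⟩ := exists_fac h𝒳 iW (iA ≫ α j)
      (eA.hom ≫ (StMod.bmap 𝒳 (α j)).resLE W A hle ≫ eW.inv)
      (by rw [hiW, StMod.bmap_comp, hiA]; simp [Scheme.Hom.resLE_comp_ι])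
    haveI : IsAffine (W : Scheme.{u}) := hW
    haveI : IsAffine (A : Scheme.{u}) := hA
    haveI : IsAffine (StMod.sch 𝒳 ξW) := .of_isIso eW.hom
    haveI : IsAffine (StMod.sch 𝒳 ηA) := .of_isIso eA.hom
    haveI : Flat (StMod.bmap 𝒳 α') := by rw [hα'b]; infer_instance
    haveI : Surjective (StMod.bmap 𝒳 α') := by rw [hα'b]; infer_instance
    have hAU : A ≤ StMod.bmap 𝒳 (α j) ⁻¹ᵁ U := hle.trans ((StMod.bmap 𝒳 (α j)).preimage_mono hWU)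
    have topA : ⊤ ≤ StMod.bmap 𝒳 iA ⁻¹ᵁ A := fun z _ => by
      show (StMod.bmap 𝒳 iA) z ∈ A
      rw [hiA]
      exact (eA.hom z).2
    have topW : ⊤ ≤ StMod.bmap 𝒳 iW ⁻¹ᵁ W := fun z _ => by
      show (StMod.bmap 𝒳 iW) z ∈ W
      rw [hiW]
      exact (eW.hom z).2
    obtain ⟨m, hm⟩ := exists_descend_top F h𝒳 hF α' (pb F iA ⊤ topA (res (F.obj (η j)) hAU (t j)))
      (fun ζ a b hab => by
        have hab' : (a ≫ iA) ≫ α j = (b ≫ iA) ≫ α j := by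
          rw [Category.assoc, Category.assoc, ← hα', reassoc_of% hab]
        have hle' : ∀ c : ζ ⟶ ηA, ⊤ ≤ StMod.bmap 𝒳 (c ≫ iA) ⁻¹ᵁ A := fun c z _ => by
          show (StMod.bmap 𝒳 (c ≫ iA)) z ∈ A
          rw [StMod.bmap_comp]
          exact topA (x := StMod.bmap 𝒳 c z) trivial
        rw [pb_pb F a iA ⊤ topA le_top (hle' a), pb_pb F b iA ⊤ topA le_top (hle' b), pb_res F _ hAU,
          pb_res F _ hAU]
        exact hc ζ j j _ _ hab' ⊤ _ _)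
    obtain ⟨s, hsm⟩ := (bijective_pb_open hF iW hW eW hiW topW).2 m
    have hsA : pb F (α j) A hle s = res (F.obj (η j)) hAU (t j) := by
      apply (bijective_pb_open hF iA hA eA hiA topA).1
      rw [← hm, ← hsm, pb_pb F iA (α j) ⊤ hle topA (topA.trans ((StMod.bmap 𝒳 iA).preimage_mono hle) |>.trans_eq
          (by rw [StMod.bmap_comp]; rfl)),
        pb_pb F α' iW ⊤ topW le_top (le_top.trans_eq (by
          rw [StMod.bmap_comp]; exact (top_le_iff.1 fun z _ => topW (x := StMod.bmap 𝒳 α' z) trivial).symm)),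
        pb_congr F hα']
    refine ⟨s, fun k => ext_flat hF.1 _ _ fun z hz => ?_⟩
    haveI := hfl k
    let gA := A.ι ≫ StMod.bmap 𝒳 (α j)
    haveI : Flat gA := inferInstance
    obtain ⟨ζ, ψ, eP, hψ⟩ := exists_lift_mor h𝒳 (η k) (pullback.fst (StMod.bmap 𝒳 (α k)) gA)
    obtain ⟨b, hb, hbb⟩ := exists_fac h𝒳 (α j) (ψ ≫ α k)
      (eP.hom ≫ pullback.snd (StMod.bmap 𝒳 (α k)) gA ≫ A.ι)
      (by rw [StMod.bmap_comp, hψ, Category.assoc, Category.assoc, Category.assoc, pullback.condition])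
    obtain ⟨w, hw⟩ := hsurj.surj ⟨StMod.bmap 𝒳 (α k) z, hz⟩
    obtain ⟨p, hp, -⟩ := Scheme.Pullback.exists_preimage_pullback (f := StMod.bmap 𝒳 (α k)) (g := gA) z w
      (congrArg Subtype.val hw.symm |>.trans (resLE_val _ _ _))
    refine ⟨ζ, ψ, by rw [hψ]; infer_instance, hp ▸ range_of_bmap ψ eP _ hψ p, ?_⟩
    let V := StMod.bmap 𝒳 ψ ⁻¹ᵁ (StMod.bmap 𝒳 (α k) ⁻¹ᵁ W)
    have hVA : V ≤ StMod.bmap 𝒳 b ⁻¹ᵁ A := fun q _ => by
      show (StMod.bmap 𝒳 b) q ∈ A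
      rw [hbb]
      exact (pullback.snd (StMod.bmap 𝒳 (α k)) gA (eP.hom q)).2
    rw [pb_pb F ψ (α k) _ le_rfl le_rfl (by rw [StMod.bmap_comp]; rfl), pb_congr F hb.symm,
      ← pb_pb F b (α j) V hle hVA, hsA, pb_res F b hAU, pb_res F ψ]
    exact (hc ζ k j ψ b hb.symm _ _ _).symm
  choose W hWU hyW s hs' using loc
  obtain ⟨s₀, hs₀⟩ := QCoh.exists_glue (F.obj ξ) hWU (fun y hy => Opens.mem_iSup.2 ⟨⟨y, hy⟩, hyW _⟩) s
    (fun a b => ext_flat hF.1 _ _ fun y hy => by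
      obtain ⟨k, hk⟩ := hs y (hWU a hy.1)
      refine ⟨η k, α k, hfl k, hk, ?_⟩
      rw [pb_res, pb_res, ← res_pb F (α k) le_rfl ((StMod.bmap 𝒳 (α k)).preimage_mono inf_le_left) (s a), hs' a k, res_res,
        ← res_pb F (α k) le_rfl ((StMod.bmap 𝒳 (α k)).preimage_mono inf_le_right) (s b),
        hs' b k, res_res])
  refine ⟨s₀, fun k => QCoh.eq_of_locally_eq (F.obj (η k))
    (fun y => (StMod.bmap 𝒳 (α k)).preimage_mono (hWU y))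
    (fun z hz => Opens.mem_iSup.2 ⟨⟨_, hz⟩, hyW _⟩) _ _ fun y => ?_⟩
  rw [res_pb, ← pb_res F (α k) (hWU y) _ le_rfl, hs₀ y, hs' y k]

end Groth.Agent.StDesc
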