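import Groth.Agent.StDesc.Push

/-!
Gluing in the pushforward along a functor which is locally full and locally essentially surjective.
-/

set_option autoImplicit false
set_option linter.style.haveILetI false
set_option linter.unusedSectionVars false
set_option backward.isDefEq.respectTransparency false
set_option backward.isDefEq.respectTransparency.types false

universe u

open CategoryTheory CategoryTheory.Limits AlgebraicGeometry TopologicalSpace Opposite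
open Groth.Agent.QCoh

noncomputable section

namespace Groth.Agent.StDesc

variable {S : Scheme.{u}} {𝒳 𝒴 : AlgSt.Cat S}

/-- A functor of categories fibred in groupoids over schemes which is fppf locally full and fppf locally
essentially surjective. -/
structure LocEquiv (π : 𝒳 ⥤ᵇ 𝒴) : Prop where
  fibX : FibCat.IsFibGrpd 𝒳.p
  fibY : FibCat.IsFibGrpd 𝒴.p
  obj : Gerb.LocSurjObj (QuotSh.J Scheme.fppfPrecoverage S) π
  hom : Gerb.LocSurjHom (QuotSh.J Scheme.fppfPrecoverage S) π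

/-- The module is invariant under automorphisms killed by the functor. -/
def Invariant (π : 𝒳 ⥤ᵇ 𝒴) (F : StMod.Mod 𝒳) : Prop :=
  ∀ ⦃x' x : 𝒳.obj⦄ (a b : x' ⟶ x), π.map a = π.map b → ∀ {U : (StMod.sch 𝒳 x).Opens}
    (V : (StMod.sch 𝒳 x').Opens) (ha : V ≤ StMod.bmap 𝒳 a ⁻¹ᵁ U) (hb : V ≤ StMod.bmap 𝒳 b ⁻¹ᵁ U)
    (s : Γ(F.obj x, U)), pb F a V ha s = pb F b V hb s

/-- Gluing of values prescribed on a covering class of morphisms to an object. -/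
theorem exists_glue_class {F : StMod.Mod 𝒳} (h𝒳 : FibCat.IsFibGrpd 𝒳.p) (hF : StMod.isQCoh 𝒳 F)
    {x : 𝒳.obj} {V : (StMod.sch 𝒳 x).Opens} (P : ∀ y : 𝒳.obj, (y ⟶ x) → Type*)
    (rP : ∀ {y' y : 𝒳.obj} (c : y' ⟶ y) {a : y ⟶ x}, P y a → P y' (c ≫ a))
    (val : ∀ (y : 𝒳.obj) (a : y ⟶ x), P y a → ∀ W : (StMod.sch 𝒳 y).Opens,
      W ≤ StMod.bmap 𝒳 a ⁻¹ᵁ V → Γ(F.obj y, W))
    (hnat : ∀ {y' y : 𝒳.obj} (c : y' ⟶ y) (a : y ⟶ x) (p : P y a) (W : (StMod.sch 𝒳 y).Opens)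
      (h : W ≤ StMod.bmap 𝒳 a ⁻¹ᵁ V) (W' : (StMod.sch 𝒳 y').Opens) (hW : W' ≤ StMod.bmap 𝒳 c ⁻¹ᵁ W)
      (h' : W' ≤ StMod.bmap 𝒳 (c ≫ a) ⁻¹ᵁ V),
      pb F c W' hW (val y a p W h) = val y' (c ≫ a) (rP c p) W' h')
    (hcompat : ∀ (y : 𝒳.obj) (a a' : y ⟶ x) (_ : a = a') (p : P y a) (p' : P y a')
      (W : (StMod.sch 𝒳 y).Opens) (h : W ≤ StMod.bmap 𝒳 a ⁻¹ᵁ V) (h' : W ≤ StMod.bmap 𝒳 a' ⁻¹ᵁ V),
      val y a p W h = val y a' p' W h')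
    (hcov : ∀ z ∈ V, ∃ (y : 𝒳.obj) (a : y ⟶ x), Nonempty (P y a) ∧ Flat (StMod.bmap 𝒳 a) ∧
      LocallyOfFinitePresentation (StMod.bmap 𝒳 a) ∧ z ∈ Set.range (StMod.bmap 𝒳 a)) :
    ∃! v : Γ(F.obj x, V), ∀ (y : 𝒳.obj) (a : y ⟶ x) (p : P y a) (W : (StMod.sch 𝒳 y).Opens)
      (h : W ≤ StMod.bmap 𝒳 a ⁻¹ᵁ V), pb F a W h v = val y a p W h := by
  let κ := Σ' (y : 𝒳.obj) (a : y ⟶ x) (_ : P y a),
    PLift (Flat (StMod.bmap 𝒳 a) ∧ LocallyOfFinitePresentation (StMod.bmap 𝒳 a))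
  let α : ∀ j : κ, j.1 ⟶ x := fun j => j.2.1
  obtain ⟨v, hv⟩ := exists_glue_flat h𝒳 hF (U := V) α (fun j => j.2.2.2.down.1) (fun j => j.2.2.2.down.2)
    (fun z hz => by
      obtain ⟨y, a, ⟨p⟩, h1, h2, h3⟩ := hcov z hz
      exact ⟨⟨y, a, p, ⟨h1, h2⟩⟩, h3⟩)
    (fun j => val j.1 j.2.1 j.2.2.1 _ le_rfl)
    (fun ζ j k a b hab W ha hb => by
      rw [hnat a _ j.2.2.1 _ le_rfl W ha (ha.trans_eq (by rw [StMod.bmap_comp]; rfl)),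
        hnat b _ k.2.2.1 _ le_rfl W hb (hb.trans_eq (by rw [StMod.bmap_comp]; rfl))]
      exact hcompat ζ _ _ hab _ _ W _ _)
  refine ⟨v, fun y a p W h => ext_flat hF.1 _ _ fun z hz => ?_, fun w hw => ext_flat hF.1 _ _ fun z hz => ?_⟩
  · obtain ⟨y₀, a₀, ⟨p₀⟩, h1, h2, ⟨z₀, hz₀⟩⟩ := hcov (StMod.bmap 𝒳 a z) (h hz)
    haveI := h1
    obtain ⟨y', c, e, hc⟩ := exists_lift_mor h𝒳 y (pullback.fst (StMod.bmap 𝒳 a) (StMod.bmap 𝒳 a₀))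
    obtain ⟨b, hb, hbb⟩ := exists_fac h𝒳 a₀ (c ≫ a) (e.hom ≫ pullback.snd _ _)
      (by rw [StMod.bmap_comp, hc, Category.assoc, Category.assoc, pullback.condition])
    obtain ⟨q, hq, -⟩ := Scheme.Pullback.exists_preimage_pullback (f := StMod.bmap 𝒳 a)
      (g := StMod.bmap 𝒳 a₀) z z₀ hz₀.symm
    refine ⟨y', c, by rw [hc]; infer_instance, hq ▸ range_of_bmap c e _ hc q, ?_⟩
    let W' := StMod.bmap 𝒳 c ⁻¹ᵁ W
    have h' : W' ≤ StMod.bmap 𝒳 (c ≫ a) ⁻¹ᵁ V := fun t ht => by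
      show StMod.bmap 𝒳 (c ≫ a) t ∈ V
      rw [StMod.bmap_comp]
      exact h ht
    have hb0 : W' ≤ StMod.bmap 𝒳 b ⁻¹ᵁ (StMod.bmap 𝒳 a₀ ⁻¹ᵁ V) := fun t ht => by
      show StMod.bmap 𝒳 a₀ (StMod.bmap 𝒳 b t) ∈ V
      have h2 : StMod.bmap 𝒳 (c ≫ a) t ∈ V := h' ht
      rw [← hb, StMod.bmap_comp] at h2
      exact h2
    have hj : pb F a₀ _ le_rfl v = val y₀ a₀ p₀ _ le_rfl := hv ⟨y₀, a₀, p₀, ⟨h1, h2⟩⟩
    rw [pb_pb F c a W' h le_rfl h', pb_congr F hb.symm, ← pb_pb F b a₀ W' le_rfl hb0, hj,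
      hnat b a₀ p₀ _ le_rfl W' hb0 (hb ▸ h'), hnat c a p W h W' le_rfl h']
    exact hcompat y' _ _ hb _ _ W' _ _
  · obtain ⟨y, a, ⟨p⟩, h1, h2, h3⟩ := hcov z hz
    exact ⟨y, a, h1, h3, (hw y a p _ le_rfl).trans (hv ⟨y, a, p, ⟨h1, h2⟩⟩).symm⟩

variable {π : 𝒳 ⥤ᵇ 𝒴} {F : StMod.Mod 𝒳}

/-- An object of the target has a small covering by objects coming from the source. -/
theorem exists_cover (L : LocEquiv π) (η : 𝒴.obj) (z : StMod.sch 𝒴 η) :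
    ∃ (x : 𝒳.obj) (g : π.obj x ⟶ η), Flat (bO π g) ∧ LocallyOfFinitePresentation (bO π g) ∧
      z ∈ Set.range (bO π g) := by
  obtain ⟨R, hR, hlift⟩ := L.obj η
  obtain ⟨R₀, hR₀, hsub⟩ := Groth.Agent.AlgSp.exists_cover_of_mem hR
  obtain ⟨κ, W, c, rfl⟩ := R₀.exists_eq_ofArrows
  obtain ⟨hs, hc⟩ := (Scheme.ofArrows_mem_precoverage_iff _).1 hR₀
  obtain ⟨j, w, hw⟩ := hs z
  obtain ⟨x, g, hg⟩ := hlift _ (hsub (c j) (Presieve.ofArrows.mk j))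
  haveI := hg
  have ha := IsHomLift.domain_eq 𝒴.p (Over.homMk (c j) rfl : Over.mk (c j ≫ (𝒴.p.obj η).hom) ⟶ _) g
  have hf := IsHomLift.fac' 𝒴.p (Over.homMk (c j) rfl : Over.mk (c j ≫ (𝒴.p.obj η).hom) ⟶ _) g
  obtain ⟨e, he⟩ := bO_eq π g
  let e' : StMod.sch 𝒳 x ≅ W j := e ≪≫ (Over.forget S).mapIso (eqToIso ha)
  have h : bO π g = e'.hom ≫ c j := by
    have := congrArg CommaMorphism.left hf
    simp only [Over.comp_left, Over.homMk_left, eqToHom_refl, Category.comp_id] at this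
    rw [he, show StMod.bmap 𝒴 g = _ from this]
    simp [e']
  refine ⟨x, g, ?_, ?_, ?_⟩
  · haveI : Flat (c j) := (hc j).1
    rw [h]; infer_instance
  · haveI : LocallyOfFinitePresentation (c j) := (hc j).2
    rw [h]; infer_instance
  · obtain ⟨w', rfl⟩ := e'.hom.surjective w
    exact ⟨w', by rw [h]; exact hw⟩

/-- Families are determined by their values on a covering. -/
theorem Fam.ext_cover (L : LocEquiv π) (hF : F.IsCartesian) {η : 𝒴.obj} {U : (StMod.sch 𝒴 η).Opens}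
    (s t : Fam π F η U)
    (h : ∀ z ∈ U, ∃ (x : 𝒳.obj) (g : π.obj x ⟶ η), Flat (bO π g) ∧ z ∈ Set.range (bO π g) ∧
      s.val x g _ le_rfl = t.val x g _ le_rfl) : s = t := by
  ext x β V hV
  refine ext_flat hF _ _ fun y hy => ?_
  obtain ⟨x', g, h1, ⟨z', hz'⟩, h2⟩ := h _ (hV hy)
  obtain ⟨x₀, a, b, hab, hr, hfl, -⟩ := exists_common π L.fibX L.fibY L.hom β g y z' hz'.symm
  refine ⟨x₀, a, hfl h1, hr, ?_⟩
  have hW : StMod.bmap 𝒳 a ⁻¹ᵁ V ≤ bO π (π.map a ≫ β) ⁻¹ᵁ U := fun q hq => by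
    show bO π (π.map a ≫ β) q ∈ U
    rw [bO_map]
    exact hV hq
  have hb : StMod.bmap 𝒳 a ⁻¹ᵁ V ≤ StMod.bmap 𝒳 b ⁻¹ᵁ (bO π g ⁻¹ᵁ U) := fun q hq => by
    show bO π g (StMod.bmap 𝒳 b q) ∈ U
    have h2 : bO π (π.map a ≫ β) q ∈ U := hW hq
    rw [hab, bO_map] at h2
    exact h2
  rw [Fam.pb_val s a β _ hV hW le_rfl, Fam.pb_val t a β _ hV hW le_rfl, Fam.val_congr s x₀ hab,
    Fam.val_congr t x₀ hab, ← Fam.pb_val s b g _ le_rfl (hab ▸ hW) hb, ← Fam.pb_val t b g _ le_rfl (hab ▸ hW) hb,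
    h2]

/-- Compatible families form small sets. -/
theorem hasPush (L : LocEquiv π) (hF : F.IsCartesian) : HasPush π F where
  small η U := by
    choose x g hfl _ hr using exists_cover L η
    exact small_of_injective (f := fun s : Fam π F η U => fun z : StMod.sch 𝒴 η => s.val (x z) (g z) _ le_rfl)
      fun s t e => Fam.ext_cover L hF s t fun z _ => ⟨x z, g z, hfl z, hr z, congr_fun e z⟩

/-- Gluing of families along a flat locally finitely presented family of objects of the target. -/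
theorem Fam.exists_glue (L : LocEquiv π) (hF : StMod.isQCoh 𝒳 F) {η : 𝒴.obj}
    {U : (StMod.sch 𝒴 η).Opens} {κ : Type*} {η' : κ → 𝒴.obj} (ψ : ∀ j, η' j ⟶ η)
    (hfl : ∀ j, Flat (StMod.bmap 𝒴 (ψ j))) (hfp : ∀ j, LocallyOfFinitePresentation (StMod.bmap 𝒴 (ψ j)))
    (hs : ∀ z ∈ U, ∃ j, z ∈ Set.range (StMod.bmap 𝒴 (ψ j)))
    (t : ∀ j, Fam π F (η' j) (StMod.bmap 𝒴 (ψ j) ⁻¹ᵁ U))
    (hc : ∀ (x : 𝒳.obj) (j k : κ) (γ : π.obj x ⟶ η' j) (γ' : π.obj x ⟶ η' k), γ ≫ ψ j = γ' ≫ ψ k →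
      ∀ (V : (StMod.sch 𝒳 x).Opens) (h : V ≤ bO π γ ⁻¹ᵁ (StMod.bmap 𝒴 (ψ j) ⁻¹ᵁ U))
        (h' : V ≤ bO π γ' ⁻¹ᵁ (StMod.bmap 𝒴 (ψ k) ⁻¹ᵁ U)), (t j).val x γ V h = (t k).val x γ' V h') :
    ∃ s : Fam π F η U, ∀ j, Fam.pull (ψ j) le_rfl s = t j := by
  have hle : ∀ {x y : 𝒳.obj} (β : π.obj x ⟶ η) (a : y ⟶ x) (j : κ) (γ : π.obj y ⟶ η' j),
      π.map a ≫ β = γ ≫ ψ j → ∀ {V : (StMod.sch 𝒳 x).Opens} {W : (StMod.sch 𝒳 y).Opens},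
      V ≤ bO π β ⁻¹ᵁ U → W ≤ StMod.bmap 𝒳 a ⁻¹ᵁ V → W ≤ bO π γ ⁻¹ᵁ (StMod.bmap 𝒴 (ψ j) ⁻¹ᵁ U) := by
    intro x y β a j γ he V W hV hW q hq
    show StMod.bmap 𝒴 (ψ j) (bO π γ q) ∈ U
    have h2 : bO π (π.map a ≫ β) q ∈ U := by rw [bO_map]; exact hV (hW hq)
    rw [he, bO_comp] at h2
    exact h2
  have hex : ∀ (x : 𝒳.obj) (β : π.obj x ⟶ η) (V : (StMod.sch 𝒳 x).Opens) (hV : V ≤ bO π β ⁻¹ᵁ U),
      ∃! v : Γ(F.obj x, V), ∀ (y : 𝒳.obj) (a : y ⟶ x)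
        (p : Σ' (j : κ) (γ : π.obj y ⟶ η' j), PLift (π.map a ≫ β = γ ≫ ψ j)) (W : (StMod.sch 𝒳 y).Opens)
        (h : W ≤ StMod.bmap 𝒳 a ⁻¹ᵁ V),
        pb F a W h v = (t p.1).val y p.2.1 W (hle β a p.1 p.2.1 p.2.2.down hV h) := by
    intro x β V hV
    refine exists_glue_class L.fibX hF
      (fun y a => Σ' (j : κ) (γ : π.obj y ⟶ η' j), PLift (π.map a ≫ β = γ ≫ ψ j))
      (fun {_ _} c {_} p => ⟨p.1, π.map c ≫ p.2.1, ⟨by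
        rw [π.toFunctor.map_comp, Category.assoc, Category.assoc]
        exact congrArg (fun m => π.map c ≫ m) p.2.2.down⟩⟩)
      (fun y a p W h => (t p.1).val y p.2.1 W (hle β a p.1 p.2.1 p.2.2.down hV h))
      (fun c a p W h W' hW h' => Fam.pb_val (t p.1) c p.2.1 W' _ _ hW)
      (fun y a a' e p p' W h h' => hc y p.1 p'.1 p.2.1 p'.2.1
        (by rw [← p.2.2.down, ← p'.2.2.down, e]) W _ _)
      (fun z hz => ?_)
    obtain ⟨j, z', hz'⟩ := hs _ (hV hz)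
    haveI := hfl j
    haveI := hfp j
    obtain ⟨y, a, e, ha⟩ := exists_lift_mor L.fibX x (pullback.fst (bO π β) (StMod.bmap 𝒴 (ψ j)))
    obtain ⟨ey, hey⟩ := bO_eq π (π.map a ≫ β)
    obtain ⟨γ, hγ, -⟩ := exists_fac L.fibY (ψ j) (π.map a ≫ β) (ey.inv ≫ e.hom ≫ pullback.snd _ _) (by
      rw [Category.assoc, Category.assoc, ← pullback.condition, Iso.inv_comp_eq, ← hey, bO_map, ha,
        Category.assoc])
    obtain ⟨q, hq, -⟩ := Scheme.Pullback.exists_preimage_pullback (f := bO π β)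
      (g := StMod.bmap 𝒴 (ψ j)) z z' hz'.symm
    exact ⟨y, a, ⟨j, γ, ⟨hγ.symm⟩⟩, by rw [ha]; infer_instance, by rw [ha]; infer_instance,
      hq ▸ range_of_bmap a e _ ha q⟩
  choose v hv huniq using hex
  refine ⟨⟨fun x β V => v x β V.1 V.2, ?_⟩, fun j => ?_⟩
  · intro x' x φ β V V' h h' hV
    refine huniq x' _ V' h' _ fun y a p W hW => ?_
    have hW' : W ≤ StMod.bmap 𝒳 (a ≫ φ) ⁻¹ᵁ V := fun q hq => by
      show StMod.bmap 𝒳 (a ≫ φ) q ∈ V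
      rw [StMod.bmap_comp]
      exact hV (hW hq)
    rw [pb_pb F a φ W hV hW hW']
    exact hv x β V h y (a ≫ φ) ⟨p.1, p.2.1, ⟨by
      rw [π.toFunctor.map_comp, Category.assoc]; exact p.2.2.down⟩⟩ W hW'
  · ext x γ V h
    rw [Fam.pull_val]
    have e : π.map (𝟙 x) ≫ γ ≫ ψ j = γ ≫ ψ j := by
      rw [π.toFunctor.map_id]; exact Category.id_comp _
    have hV : V ≤ StMod.bmap 𝒳 (𝟙 x) ⁻¹ᵁ V := by rw [StMod.bmap_id]; exact le_rfl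
    refine Eq.trans ?_ (hv x (γ ≫ ψ j) V (h.trans (by rw [bO_comp]; exact le_rfl)) x (𝟙 x) ⟨j, γ, ⟨e⟩⟩ V hV)
    rw [pb_id F hV le_rfl, res_self]
    rfl

/-- The pushforward evaluates at objects of the source to the module itself. -/
theorem bijective_ev (L : LocEquiv π) (hF : StMod.isQCoh 𝒳 F) (hI : Invariant π F) {ξ : 𝒳.obj}
    (U : (StMod.sch 𝒴 (π.obj ξ)).Opens) :
    Function.Bijective fun s : Fam π F (π.obj ξ) U => s.val ξ (𝟙 _) _ le_rfl := by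
  haveI := bO_id π ξ
  refine ⟨fun s t e => Fam.ext_cover L hF.1 s t fun z _ =>
    ⟨ξ, 𝟙 _, inferInstance, (bO π (𝟙 (π.obj ξ))).surjective z, e⟩, fun t => ?_⟩
  have hle : ∀ {x y : 𝒳.obj} (β : π.obj x ⟶ π.obj ξ) (a : y ⟶ x) (b : y ⟶ ξ), π.map a ≫ β = π.map b →
      ∀ {V : (StMod.sch 𝒳 x).Opens} {W : (StMod.sch 𝒳 y).Opens},
      V ≤ bO π β ⁻¹ᵁ U → W ≤ StMod.bmap 𝒳 a ⁻¹ᵁ V →
      W ≤ StMod.bmap 𝒳 b ⁻¹ᵁ (bO π (𝟙 (π.obj ξ)) ⁻¹ᵁ U) := by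
    intro x y β a b he V W hV hW q hq
    show bO π (𝟙 (π.obj ξ)) (StMod.bmap 𝒳 b q) ∈ U
    have h2 : bO π (π.map a ≫ β) q ∈ U := by rw [bO_map]; exact hV (hW hq)
    rw [he, bO_bmap] at h2
    exact h2
  have hex : ∀ (x : 𝒳.obj) (β : π.obj x ⟶ π.obj ξ) (V : (StMod.sch 𝒳 x).Opens) (hV : V ≤ bO π β ⁻¹ᵁ U),
      ∃! v : Γ(F.obj x, V), ∀ (y : 𝒳.obj) (a : y ⟶ x)
        (p : Σ' (b : y ⟶ ξ), PLift (π.map a ≫ β = π.map b)) (W : (StMod.sch 𝒳 y).Opens)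
        (h : W ≤ StMod.bmap 𝒳 a ⁻¹ᵁ V),
        pb F a W h v = pb F p.1 W (hle β a p.1 p.2.down hV h) t := by
    intro x β V hV
    refine exists_glue_class L.fibX hF
      (fun y a => Σ' (b : y ⟶ ξ), PLift (π.map a ≫ β = π.map b))
      (fun {_ _} c {_} p => ⟨c ≫ p.1, ⟨by
        rw [π.toFunctor.map_comp, π.toFunctor.map_comp, Category.assoc]
        exact congrArg (fun m => π.map c ≫ m) p.2.down⟩⟩)
      (fun y a p W h => pb F p.1 W (hle β a p.1 p.2.down hV h) t)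
      (fun c a p W h W' hW h' => pb_pb F c p.1 W' _ hW _ t)
      (fun y a a' e p p' W h h' => hI _ _ (by rw [← p.2.down, ← p'.2.down, e]) W _ _ t)
      (fun z hz => ?_)
    obtain ⟨z', hz'⟩ := (bO π (𝟙 (π.obj ξ))).surjective (bO π β z)
    obtain ⟨y, a, b, hab, hr, h1, h2⟩ := exists_common π L.fibX L.fibY L.hom β (𝟙 (π.obj ξ)) z z' hz'.symm
    exact ⟨y, a, ⟨b, ⟨hab.trans (Category.comp_id _)⟩⟩, h1 inferInstance, h2 inferInstance, hr⟩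
  choose v hv huniq using hex
  refine ⟨⟨fun x β V => v x β V.1 V.2, ?_⟩, ?_⟩
  · intro x' x φ β V V' h h' hV
    refine huniq x' _ V' h' _ fun y a p W hW => ?_
    have hW' : W ≤ StMod.bmap 𝒳 (a ≫ φ) ⁻¹ᵁ V := fun q hq => by
      show StMod.bmap 𝒳 (a ≫ φ) q ∈ V
      rw [StMod.bmap_comp]
      exact hV (hW hq)
    rw [pb_pb F a φ W hV hW hW']
    exact hv x β V h y (a ≫ φ) ⟨p.1, ⟨by
      rw [π.toFunctor.map_comp, Category.assoc]; exact p.2.down⟩⟩ W hW'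
  · have e : π.map (𝟙 ξ) ≫ 𝟙 (π.obj ξ) = π.map (𝟙 ξ) := Category.comp_id _
    have hV : bO π (𝟙 (π.obj ξ)) ⁻¹ᵁ U ≤ StMod.bmap 𝒳 (𝟙 ξ) ⁻¹ᵁ (bO π (𝟙 (π.obj ξ)) ⁻¹ᵁ U) := by
      rw [StMod.bmap_id]; exact le_rfl
    have := hv ξ (𝟙 _) (bO π (𝟙 (π.obj ξ)) ⁻¹ᵁ U) le_rfl ξ (𝟙 ξ) ⟨𝟙 ξ, ⟨e⟩⟩ _ hV
    rw [pb_id F hV le_rfl, res_self, pb_id F _ le_rfl, res_self] at this
    exact this

end Groth.Agent.StDesc
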