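import Groth.Agent.StDesc.Unit
import Groth.Agent.StDesc.Chart
import Groth.Agent.QCoh.Basic

/-!
The pushforward of an invariant quasi-coherent module is quasi-coherent.
-/

set_option autoImplicit false
set_option linter.style.haveILetI false
set_option linter.unusedSectionVars false
set_option backward.isDefEq.respectTransparency false
set_option backward.isDefEq.respectTransparency.types false

universe u

open CategoryTheory CategoryTheory.Limits AlgebraicGeometry TopologicalSpace Opposite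
open scoped TensorProduct
open Groth.Agent.QCoh

noncomputable section

namespace Groth.Agent.StDesc

variable {S : Scheme.{u}} {𝒳 𝒴 : AlgSt.Cat S} {π : 𝒳 ⥤ᵇ 𝒴} {F : StMod.Mod 𝒳}

theorem bO_one_comp {y : 𝒳.obj} {η : 𝒴.obj} (β : π.obj y ⟶ η) :
    bO π β = bO π (𝟙 (π.obj y)) ≫ StMod.bmap 𝒴 β := by
  rw [← bO_comp, Category.id_comp]

/-- A morphism from the image of an object is refined along any morphism of the target. -/
theorem exists_refine (L : LocEquiv π) {x : 𝒳.obj} {η η' : 𝒴.obj} (β : π.obj x ⟶ η) (ψ : η' ⟶ η) :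
    ∃ (y : 𝒳.obj) (a : y ⟶ x) (γ : π.obj y ⟶ η')
      (e : StMod.sch 𝒳 y ≅ pullback (bO π β) (StMod.bmap 𝒴 ψ)), π.map a ≫ β = γ ≫ ψ ∧
      StMod.bmap 𝒳 a = e.hom ≫ pullback.fst _ _ ∧ bO π γ = e.hom ≫ pullback.snd _ _ := by
  obtain ⟨y, a, e, ha⟩ := exists_lift_mor L.fibX x (pullback.fst (bO π β) (StMod.bmap 𝒴 ψ))
  haveI := bO_id π y
  obtain ⟨γ, hγ, hγ'⟩ := exists_fac L.fibY ψ (π.map a ≫ β)
    (inv (bO π (𝟙 (π.obj y))) ≫ e.hom ≫ pullback.snd _ _) (by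
    rw [Category.assoc, Category.assoc, ← pullback.condition, IsIso.inv_comp_eq, ← bO_one_comp, bO_map, ha,
      Category.assoc])
  refine ⟨y, a, γ, e, hγ.symm, ha, ?_⟩
  rw [bO_one_comp, hγ', IsIso.hom_inv_id_assoc]

/-- A chart of an affine object of the target: a faithfully flat finitely presented morphism from the
image of an affine object of the source. -/
structure IsChart {y : 𝒳.obj} {η : 𝒴.obj} (g : π.obj y ⟶ η) : Prop where
  affX : IsAffine (StMod.sch 𝒳 y)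
  aff : IsAffine (StMod.sch 𝒴 (π.obj y))
  affY : IsAffine (StMod.sch 𝒴 η)
  flat : Flat (StMod.bmap 𝒴 g)
  lfp : LocallyOfFinitePresentation (StMod.bmap 𝒴 g)
  surj : Surjective (StMod.bmap 𝒴 g)

theorem isAffine_obj (y : 𝒳.obj) [IsAffine (StMod.sch 𝒳 y)] : IsAffine (StMod.sch 𝒴 (π.obj y)) := by
  haveI := bO_id π y
  exact .of_isIso (inv (bO π (𝟙 (π.obj y))))

theorem IsChart.mk' {y : 𝒳.obj} {η : 𝒴.obj} {g : π.obj y ⟶ η} (h1 : IsAffine (StMod.sch 𝒳 y))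
    (h2 : IsAffine (StMod.sch 𝒴 η)) (h3 : Flat (bO π g)) (h4 : LocallyOfFinitePresentation (bO π g))
    (h5 : Surjective (bO π g)) : IsChart g := by
  haveI := bO_id π y
  have e : StMod.bmap 𝒴 g = inv (bO π (𝟙 (π.obj y))) ≫ bO π g := by
    rw [bO_one_comp g, IsIso.inv_hom_id_assoc]
  refine ⟨h1, isAffine_obj y, h2, ?_, ?_, ?_⟩ <;> rw [e] <;> infer_instance

theorem IsChart.flat' {y : 𝒳.obj} {η : 𝒴.obj} {g : π.obj y ⟶ η} (h : IsChart g) : Flat (bO π g) := by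
  haveI := bO_id π y
  haveI := h.flat
  rw [bO_one_comp]
  infer_instance

theorem IsChart.lfp' {y : 𝒳.obj} {η : 𝒴.obj} {g : π.obj y ⟶ η} (h : IsChart g) :
    LocallyOfFinitePresentation (bO π g) := by
  haveI := bO_id π y
  haveI := h.lfp
  rw [bO_one_comp]
  infer_instance

theorem IsChart.surj' {y : 𝒳.obj} {η : 𝒴.obj} {g : π.obj y ⟶ η} (h : IsChart g) :
    Surjective (bO π g) := by
  haveI := bO_id π y
  haveI := h.surj
  rw [bO_one_comp]
  infer_instance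

theorem Fam.ext_pull (L : LocEquiv π) (hF : F.IsCartesian) {η : 𝒴.obj} {U : (StMod.sch 𝒴 η).Opens}
    {κ : Type*} {η' : κ → 𝒴.obj} (ψ : ∀ j, η' j ⟶ η) (hfl : ∀ j, Flat (StMod.bmap 𝒴 (ψ j)))
    (hs : ∀ z ∈ U, ∃ j, z ∈ Set.range (StMod.bmap 𝒴 (ψ j))) (s t : Fam π F η U)
    (h : ∀ j, Fam.pull (ψ j) le_rfl s = Fam.pull (ψ j) le_rfl t) : s = t := by
  ext x β V hV
  refine ext_flat hF _ _ fun q hq => ?_
  obtain ⟨j, z', hz'⟩ := hs _ (hV hq)
  haveI := hfl j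
  obtain ⟨y, a, γ, e, he, ha, hγ⟩ := exists_refine L β (ψ j)
  obtain ⟨p, hp, -⟩ := Scheme.Pullback.exists_preimage_pullback (f := bO π β)
    (g := StMod.bmap 𝒴 (ψ j)) q z' hz'.symm
  refine ⟨y, a, by rw [ha]; infer_instance, hp ▸ range_of_bmap a e _ ha p, ?_⟩
  have hW : StMod.bmap 𝒳 a ⁻¹ᵁ V ≤ bO π (π.map a ≫ β) ⁻¹ᵁ U := fun r hr => by
    show bO π (π.map a ≫ β) r ∈ U
    rw [bO_map]
    exact hV hr
  have hW' : StMod.bmap 𝒳 a ⁻¹ᵁ V ≤ bO π γ ⁻¹ᵁ (StMod.bmap 𝒴 (ψ j) ⁻¹ᵁ U) := fun r hr => by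
    show StMod.bmap 𝒴 (ψ j) (bO π γ r) ∈ U
    have h2 : bO π (π.map a ≫ β) r ∈ U := hW hr
    rw [he, bO_comp] at h2
    exact h2
  rw [Fam.pb_val s a β _ hV hW le_rfl, Fam.pb_val t a β _ hV hW le_rfl, Fam.val_congr s y he,
    Fam.val_congr t y he]
  exact congrArg (fun f : Fam π F (η' j) _ => f.val y γ _ hW') (h j)

theorem appLE_bijective_open {X' X : Scheme.{u}} {g : X' ⟶ X} {W : X.Opens} (e : X' ≅ (W : Scheme.{u}))
    (he : g = e.hom ≫ W.ι) (h : ⊤ ≤ g ⁻¹ᵁ W) : Function.Bijective (g.appLE W ⊤ h) := by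
  subst he
  have h₁ : (⊤ : (W : Scheme.{u}).Opens) ≤ W.ι ⁻¹ᵁ W := W.ι_preimage_self.ge
  haveI : IsIso ((e.hom ≫ W.ι).appLE W ⊤ h) := by
    rw [← Scheme.Hom.appLE_comp_appLE e.hom W.ι W ⊤ ⊤ h₁ le_top, Scheme.Opens.ι_appLE, appLE_top]
    haveI : IsIso (X.presheaf.map (homOfLE (W.ι_image_top.le)).op) := by
      have : IsIso (homOfLE W.ι_image_top.le) :=
        ⟨homOfLE W.ι_image_top.ge, Subsingleton.elim _ _, Subsingleton.elim _ _⟩
      infer_instance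
    infer_instance
  exact ConcreteCategory.bijective_of_isIso _

variable [HasPush π F]

/-- Restriction of the pushforward to an open is bijective. -/
theorem bijective_pb_push (L : LocEquiv π) (hF : StMod.isQCoh 𝒳 F) {η' η : 𝒴.obj} (ψ : η' ⟶ η)
    {W : (StMod.sch 𝒴 η).Opens} (e : StMod.sch 𝒴 η' ≅ (W : Scheme.{u}))
    (he : StMod.bmap 𝒴 ψ = e.hom ≫ W.ι) (h : ⊤ ≤ StMod.bmap 𝒴 ψ ⁻¹ᵁ W) :
    Function.Bijective (pb (push π F) ψ (U := W) ⊤ h) := by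
  haveI : IsOpenImmersion (StMod.bmap 𝒴 ψ) := by rw [he]; infer_instance
  have hs : ∀ z ∈ W, ∃ _ : PUnit.{1}, z ∈ Set.range (StMod.bmap 𝒴 ψ) := fun z hz =>
    ⟨⟨⟩, range_of_bmap ψ e _ he ⟨z, hz⟩⟩
  have hb : Function.Bijective (Fam.pull (π := π) (F := F) ψ h) := by
    refine ⟨fun s t hst => Fam.ext_pull L hF.1 (fun _ : PUnit.{1} => ψ) (fun _ => inferInstance) hs s t
      fun _ => ?_, fun n => ?_⟩
    · ext x β V hV
      exact congrArg (fun f : Fam π F η' ⊤ => f.val x β V le_top) hst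
    · obtain ⟨s, hs'⟩ := Fam.exists_glue L hF (fun _ : PUnit.{1} => ψ) (fun _ => inferInstance)
        (fun _ => inferInstance) hs (fun _ => Fam.restr le_top n) (fun x _ _ γ γ' hγ V hV hV' => by
          obtain rfl : γ = γ' := hom_ext_bmap L.fibY ψ hγ (by
            rw [← cancel_mono (StMod.bmap 𝒴 ψ), ← StMod.bmap_comp, hγ, StMod.bmap_comp])
          rfl)
      refine ⟨s, ?_⟩
      ext x β V hV
      exact congrArg (fun f : Fam π F η' _ => f.val x β V (hV.trans ((bO π β).preimage_mono h))) (hs' ⟨⟩)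
  have : (fun s => secFam (pb (push π F) ψ (U := W) ⊤ h s)) = fun s => Fam.pull ψ h (secFam s) :=
    funext fun s => secFam_pb ψ ⊤ h s
  have h2 : Function.Bijective (fun s => secFam (pb (push π F) ψ (U := W) ⊤ h s)) := by
    rw [this]
    exact hb.comp (secFam (π := π) (F := F)).bijective
  exact (Function.Bijective.of_comp_iff' (secFam (π := π) (F := F)).bijective _).1 h2

theorem bc_open (L : LocEquiv π) (hF : StMod.isQCoh 𝒳 F) {η' η : 𝒴.obj} (ψ : η' ⟶ η)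
    {W : (StMod.sch 𝒴 η).Opens} (e : StMod.sch 𝒴 η' ≅ (W : Scheme.{u}))
    (he : StMod.bmap 𝒴 ψ = e.hom ≫ W.ι) (h : ⊤ ≤ StMod.bmap 𝒴 ψ ⁻¹ᵁ W) :
    BC (push π F) ψ W ⊤ h :=
  bc_of_bijective ψ (appLE_bijective_open e he h) (bijective_pb_push L hF ψ e he h)

/-- Base change along morphisms coming from the source. -/
theorem bc_map (L : LocEquiv π) (hF : StMod.isQCoh 𝒳 F) (hI : Invariant π F) {x' x : 𝒳.obj}
    (j : x' ⟶ x) [IsAffine (StMod.sch 𝒳 x')] [IsAffine (StMod.sch 𝒳 x)] :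
    BC (push π F) (π.map j) ⊤ ⊤ le_top := by
  obtain ⟨i⟩ := nonempty_comap_push_iso L hF hI
  exact (bc_comap π (push π F) j).1
    (bc_of_iso i.symm j (bc_of_qcoh hF j _ (isAffineOpen_top _) (isAffineOpen_top _)))

theorem injective_pb_push_flat (L : LocEquiv π) (hF : F.IsCartesian) {η' η : 𝒴.obj} (ψ : η' ⟶ η)
    [Flat (StMod.bmap 𝒴 ψ)] [Surjective (StMod.bmap 𝒴 ψ)] :
    Function.Injective (pb (push π F) ψ (U := ⊤) ⊤ le_top) := by
  intro s t hst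
  apply (secFam (π := π) (F := F)).injective
  refine Fam.ext_pull L hF (fun _ : PUnit.{1} => ψ) (fun _ => inferInstance)
    (fun z _ => ⟨⟨⟩, (StMod.bmap 𝒴 ψ).surjective z⟩) _ _ fun _ => ?_
  have h2 := congrArg (secFam (π := π) (F := F)) hst
  rw [secFam_pb, secFam_pb] at h2
  exact h2

/-- The pushforward satisfies base change along charts. -/
theorem bc_chart (L : LocEquiv π) (hF : StMod.isQCoh 𝒳 F) (hI : Invariant π F) {x : 𝒳.obj} {η : 𝒴.obj}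
    {g : π.obj x ⟶ η} (hg : IsChart g) : BC (push π F) g ⊤ ⊤ le_top := by
  haveI := hg.affX
  haveI := hg.aff
  haveI := hg.affY
  haveI := hg.flat
  haveI := hg.lfp
  haveI := hg.surj
  haveI := bO_id π x
  obtain ⟨x₂, l₂, e₂, hl₂⟩ := exists_lift_mor L.fibX x
    (pullback.snd (StMod.bmap 𝒴 g) (StMod.bmap 𝒴 g) ≫ inv (bO π (𝟙 (π.obj x))))
  haveI := bO_id π x₂
  let j₂ : StMod.sch 𝒴 (π.obj x₂) ≅ pullback (StMod.bmap 𝒴 g) (StMod.bmap 𝒴 g) :=
    (asIso (bO π (𝟙 (π.obj x₂)))).symm ≪≫ e₂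
  have hp₂ : StMod.bmap 𝒴 (π.map l₂) = j₂.hom ≫ pullback.snd _ _ := by
    have h := bO_one_comp (π := π) (π.map l₂)
    rw [bO_bmap, hl₂] at h
    rw [← cancel_epi (bO π (𝟙 (π.obj x₂))), ← h]
    simp [j₂]
  obtain ⟨p₁, hw, hp₁⟩ := exists_fac L.fibY g (π.map l₂ ≫ g) (j₂.hom ≫ pullback.fst _ _) (by
    rw [StMod.bmap_comp, hp₂, Category.assoc, Category.assoc, pullback.condition])
  have hsq : IsPullback (StMod.bmap 𝒴 p₁) (StMod.bmap 𝒴 (π.map l₂)) (StMod.bmap 𝒴 g) (StMod.bmap 𝒴 g) :=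
    IsPullback.of_iso (IsPullback.of_hasPullback _ _) j₂.symm (Iso.refl _) (Iso.refl _) (Iso.refl _)
      (by simp [hp₁]) (by simp [hp₂]) (by simp) (by simp)
  haveI : IsAffine (StMod.sch 𝒴 (π.obj x₂)) := .of_isPullback hsq
  haveI : IsAffine (StMod.sch 𝒳 x₂) := .of_isIso (bO π (𝟙 (π.obj x₂)))
  obtain ⟨x₃, l₃, e₃, hl₃⟩ := exists_lift_mor L.fibX x₂
    (pullback.snd (StMod.bmap 𝒴 g) (StMod.bmap 𝒴 (π.map l₂ ≫ g)) ≫ inv (bO π (𝟙 (π.obj x₂))))
  haveI := bO_id π x₃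
  let j₃ : StMod.sch 𝒴 (π.obj x₃) ≅ pullback (StMod.bmap 𝒴 g) (StMod.bmap 𝒴 (π.map l₂ ≫ g)) :=
    (asIso (bO π (𝟙 (π.obj x₃)))).symm ≪≫ e₃
  have hq : StMod.bmap 𝒴 (π.map l₃) = j₃.hom ≫ pullback.snd _ _ := by
    have h := bO_one_comp (π := π) (π.map l₃)
    rw [bO_bmap, hl₃] at h
    rw [← cancel_epi (bO π (𝟙 (π.obj x₃))), ← h]
    simp [j₃]
  obtain ⟨t, ht, ht'⟩ := exists_fac L.fibY g (π.map l₃ ≫ π.map l₂ ≫ g) (j₃.hom ≫ pullback.fst _ _) (by
    rw [StMod.bmap_comp (π.map l₃), hq, Category.assoc, Category.assoc, pullback.condition])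
  have hsq₃ : IsPullback (StMod.bmap 𝒴 t) (StMod.bmap 𝒴 (π.map l₃)) (StMod.bmap 𝒴 g)
      (StMod.bmap 𝒴 (π.map l₂ ≫ g)) :=
    IsPullback.of_iso (IsPullback.of_hasPullback _ _) j₃.symm (Iso.refl _) (Iso.refl _) (Iso.refl _)
      (by simp [ht']) (by simp [hq]) (by simp) (by simp)
  haveI : IsAffine (StMod.sch 𝒴 (π.obj x₃)) := .of_isPullback hsq₃
  haveI : IsAffine (StMod.sch 𝒳 x₃) := .of_isIso (bO π (𝟙 (π.obj x₃)))
  have mk : ∀ {ζ : 𝒴.obj} (a b : ζ ⟶ π.obj x), a ≫ g = b ≫ g →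
      ∃ d : ζ ⟶ π.obj x₂, d ≫ p₁ = a ∧ d ≫ π.map l₂ = b := by
    intro ζ a b hab
    have hab' : StMod.bmap 𝒴 a ≫ StMod.bmap 𝒴 g = StMod.bmap 𝒴 b ≫ StMod.bmap 𝒴 g := by
      rw [← StMod.bmap_comp, hab, StMod.bmap_comp]
    obtain ⟨d, hd, hd'⟩ := exists_fac L.fibY (π.map l₂) b (hsq.lift _ _ hab') (hsq.lift_snd _ _ _)
    refine ⟨d, hom_ext_bmap L.fibY g ?_ ?_, hd⟩
    · rw [Category.assoc, hw, ← Category.assoc, hd, hab]
    · rw [StMod.bmap_comp, hd']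
      exact hsq.lift_fst _ _ _
  obtain ⟨q₁₂, a₁₂, b₁₂⟩ := mk t (π.map l₃ ≫ p₁) (by rw [ht, Category.assoc, hw])
  obtain ⟨q₁₃, a₁₃, b₁₃⟩ := mk t (π.map l₃ ≫ π.map l₂) (by rw [ht, Category.assoc])
  haveI : Flat (StMod.bmap 𝒴 p₁) := by rw [hp₁]; infer_instance
  haveI : Surjective (StMod.bmap 𝒴 p₁) := by rw [hp₁]; infer_instance
  refine bc_of_descent g p₁ (π.map l₂) t (π.map l₃) q₁₂ q₁₃ hw hsq hsq₃ a₁₂ b₁₂ a₁₃ b₁₃
    (bc_map L hF hI l₂) (bc_map L hF hI l₃) (injective_pb_push_flat L hF.1 g)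
    (injective_pb_push_flat L hF.1 p₁) fun n hn => ?_
  have hall : ∀ {ζ : 𝒴.obj} (a b : ζ ⟶ π.obj x), a ≫ g = b ≫ g →
      pb (push π F) a (U := ⊤) ⊤ le_top n = pb (push π F) b (U := ⊤) ⊤ le_top n := by
    intro ζ a b hab
    obtain ⟨d, rfl, rfl⟩ := mk a b hab
    rw [← pb_pb (push π F) d p₁ (V := ⊤) ⊤ le_top le_top le_top,
      ← pb_pb (push π F) d (π.map l₂) (V := ⊤) ⊤ le_top le_top le_top, hn]
  obtain ⟨s, hs⟩ := Fam.exists_glue L hF (U := ⊤) (fun _ : PUnit.{1} => g) (fun _ => inferInstance)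
    (fun _ => inferInstance) (fun z _ => ⟨⟨⟩, (StMod.bmap 𝒴 g).surjective z⟩)
    (fun _ => secFam (show Γ((push π F).obj (π.obj x), StMod.bmap 𝒴 g ⁻¹ᵁ ⊤) from n))
    (fun y _ _ γ γ' hγ V h h' => by
      have h2 := congrArg (secFam (π := π) (F := F)) (hall γ γ' hγ)
      rw [secFam_pb, secFam_pb] at h2
      have h3 := congrArg (fun f : Fam π F (π.obj y) ⊤ => f.val y (𝟙 _) V le_top) h2
      simp only [Fam.pull_val] at h3
      rw [Fam.val_congr _ y (Category.id_comp γ), Fam.val_congr _ y (Category.id_comp γ')] at h3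
      exact h3)
  refine ⟨(secFam (π := π) (F := F)).symm s, (secFam (π := π) (F := F)).injective ?_⟩
  rw [secFam_pb, LinearEquiv.apply_symm_apply]
  exact hs ⟨⟩

/-- Base change along morphisms between affines, the target having a chart. -/
theorem bc_of_chart (L : LocEquiv π) (hF : StMod.isQCoh 𝒳 F) (hI : Invariant π F) {x : 𝒳.obj}
    {η η' : 𝒴.obj} {g : π.obj x ⟶ η} (hg : IsChart g) (ψ : η' ⟶ η) [IsAffine (StMod.sch 𝒴 η')] :
    BC (push π F) ψ ⊤ ⊤ le_top := by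
  haveI := hg.affX
  haveI := hg.affY
  haveI := hg.flat'
  haveI := hg.lfp'
  haveI := hg.surj'
  obtain ⟨y, a, γ, e, he, ha, hγ⟩ := exists_refine L g ψ
  haveI : IsAffine (StMod.sch 𝒳 y) := .of_isIso e.hom
  have hc : IsChart γ := IsChart.mk' inferInstance inferInstance (by rw [hγ]; infer_instance)
    (by rw [hγ]; infer_instance) (by rw [hγ]; infer_instance)
  haveI := hc.aff
  haveI := hc.flat
  haveI := hc.surj
  refine bc_of_faithfullyFlat (ψ := γ) (h' := le_top) (W := ⊤) (h'' := le_top) ?_ (bc_chart L hF hI hc) ?_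
  · rw [appLE_top]
    exact (Flat.flat_and_surjective_iff_faithfullyFlat_of_isAffine _).1 ⟨inferInstance, inferInstance⟩
  · exact bc_congr he (bc_comp (bc_chart L hF hI hg) (bc_map L hF hI a) le_top)

/-- Near every point there is an affine open with a chart. -/
theorem exists_chart (L : LocEquiv π) (η : 𝒴.obj) (U : (StMod.sch 𝒴 η).Opens) (z : StMod.sch 𝒴 η)
    (hz : z ∈ U) :
    ∃ (W : (StMod.sch 𝒴 η).Opens), IsAffineOpen W ∧ W ≤ U ∧ z ∈ W ∧
      ∃ (ηW : 𝒴.obj) (iW : ηW ⟶ η) (eW : StMod.sch 𝒴 ηW ≅ (W : Scheme.{u})) (y : 𝒳.obj)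
        (g : π.obj y ⟶ ηW), StMod.bmap 𝒴 iW = eW.hom ≫ W.ι ∧ IsChart g := by
  obtain ⟨x₀, g₀, h1, h2, ⟨q, rfl⟩⟩ := exists_cover L η z
  haveI := h1
  haveI := h2
  obtain ⟨W, A, hle, hW, hA, hWU, hmem, hsurj⟩ := exists_affine_surj (bO π g₀) U q hz
  haveI := hsurj
  refine ⟨W, hW, hWU, hmem, ?_⟩
  obtain ⟨ηW, iW, eW, hiW⟩ := exists_lift_mor L.fibY η W.ι
  obtain ⟨y, c, eA, hc⟩ := exists_lift_mor L.fibX x₀ A.ι
  haveI := bO_id π y
  obtain ⟨g, hg, hg'⟩ := exists_fac L.fibY iW (π.map c ≫ g₀)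
    (inv (bO π (𝟙 (π.obj y))) ≫ eA.hom ≫ (bO π g₀).resLE W A hle ≫ eW.inv) (by
      simp only [Category.assoc]
      rw [IsIso.inv_comp_eq, ← bO_one_comp, bO_map, hc, hiW, Iso.inv_hom_id_assoc,
        Scheme.Hom.resLE_comp_ι, Category.assoc])
  haveI : IsAffine (W : Scheme.{u}) := hW
  haveI : IsAffine (A : Scheme.{u}) := hA
  have hbg : bO π g = eA.hom ≫ (bO π g₀).resLE W A hle ≫ eW.inv := by
    rw [bO_one_comp, hg', IsIso.hom_inv_id_assoc]
  haveI : LocallyOfFinitePresentation ((bO π g₀).resLE W A hle) :=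
    IsZariskiLocalAtSource.resLE _ h2
  refine ⟨ηW, iW, eW, y, g, hiW, IsChart.mk' (.of_isIso eA.hom) (.of_isIso eW.hom) ?_ ?_ ?_⟩ <;>
    rw [hbg] <;> infer_instance

/-- Base change from an affine open with a chart to affine opens over it. -/
theorem bc_affine (L : LocEquiv π) (hF : StMod.isQCoh 𝒳 F) (hI : Invariant π F) {η : 𝒴.obj}
    {W : (StMod.sch 𝒴 η).Opens} {ηW : 𝒴.obj} {iW : ηW ⟶ η}
    {eW : StMod.sch 𝒴 ηW ≅ (W : Scheme.{u})} (hiW : StMod.bmap 𝒴 iW = eW.hom ≫ W.ι) {y : 𝒳.obj}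
    {g : π.obj y ⟶ ηW} (hg : IsChart g) {η' : 𝒴.obj} (ψ : η' ⟶ η) {V : (StMod.sch 𝒴 η').Opens}
    (hV : IsAffineOpen V) (h : V ≤ StMod.bmap 𝒴 ψ ⁻¹ᵁ W) : BC (push π F) ψ W V h := by
  obtain ⟨ηV, iV, eV, hiV⟩ := exists_lift_mor L.fibY η' V.ι
  haveI : IsAffine (V : Scheme.{u}) := hV
  haveI : IsAffine (StMod.sch 𝒴 ηV) := .of_isIso eV.hom
  obtain ⟨j, hj, -⟩ := exists_fac L.fibY iW (iV ≫ ψ)
    (eV.hom ≫ (StMod.bmap 𝒴 ψ).resLE W V h ≫ eW.inv) (by
      rw [StMod.bmap_comp, hiV, hiW]; simp [Scheme.Hom.resLE_comp_ι])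
  have topV : ⊤ ≤ StMod.bmap 𝒴 iV ⁻¹ᵁ V := fun z _ => by
    show StMod.bmap 𝒴 iV z ∈ V
    rw [hiV]
    exact (eV.hom z).2
  have topW : ⊤ ≤ StMod.bmap 𝒴 iW ⁻¹ᵁ W := fun z _ => by
    show StMod.bmap 𝒴 iW z ∈ W
    rw [hiW]
    exact (eW.hom z).2
  have b : BC (push π F) (j ≫ iW) W ⊤ (fun z _ => by
      show StMod.bmap 𝒴 (j ≫ iW) z ∈ W
      rw [StMod.bmap_comp]
      exact topW (x := StMod.bmap 𝒴 j z) trivial) :=
    bc_comp (bc_open L hF iW eW hiW topW) (bc_of_chart L hF hI hg j) _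
  exact bc_of_faithfullyFlat (RingHom.FaithfullyFlat.of_bijective (appLE_bijective_open eV hiV topV))
    (bc_open L hF iV eV hiV topV) (bc_congr hj b)

theorem isQuasicoherent_push (L : LocEquiv π) (hF : StMod.isQCoh 𝒳 F) (hI : Invariant π F)
    (η : 𝒴.obj) : ((push π F).obj η).IsQuasicoherent := by
  refine isQuasicoherent_of_forall_exists_isLocalizingAt _ fun z => ?_
  obtain ⟨W, hW, -, hzW, ηW, iW, eW, y, g, hiW, hg⟩ := exists_chart L η ⊤ z trivial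
  refine ⟨W, hW, hzW, fun f => ?_⟩
  exact isLocalizingAt_of_bc hW f (by rw [StMod.bmap_id]; exact (StMod.sch 𝒴 η).basicOpen_le f)
    (bc_affine L hF hI hiW hg (𝟙 η) (hW.basicOpen f) _)

/-- The pushforward of an invariant quasi-coherent module is quasi-coherent. -/
theorem isQCoh_push (L : LocEquiv π) (hF : StMod.isQCoh 𝒳 F) (hI : Invariant π F) :
    StMod.isQCoh 𝒴 (push π F) := by
  refine ⟨fun η' η ψ g hg => ?_, fun η => isQuasicoherent_push L hF hI η⟩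
  subst hg
  let g := StMod.bmap 𝒴 ψ
  let t := ((Scheme.Modules.pullbackPushforwardAdjunction g).homEquiv _ _).symm ((push π F).map ψ rfl)
  haveI : ((push π F).obj η).IsQuasicoherent := isQuasicoherent_push L hF hI η
  have ht : (push π F).map ψ rfl =
      (Scheme.Modules.pullbackPushforwardAdjunction g).unit.app ((push π F).obj η) ≫
        (Scheme.Modules.pushforward g).map t :=
    ((((Scheme.Modules.pullbackPushforwardAdjunction g).homEquiv _ _).apply_symm_apply _).symm).trans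
      (Adjunction.homEquiv_unit _ _ _ t)
  let B : Set (StMod.sch 𝒴 η').Opens := {V | IsAffineOpen V ∧
    ∃ (W : (StMod.sch 𝒴 η).Opens) (ηW : 𝒴.obj) (iW : ηW ⟶ η)
      (eW : StMod.sch 𝒴 ηW ≅ (W : Scheme.{u})) (y : 𝒳.obj) (c : π.obj y ⟶ ηW),
      IsAffineOpen W ∧ V ≤ g ⁻¹ᵁ W ∧ StMod.bmap 𝒴 iW = eW.hom ≫ W.ι ∧ IsChart c}
  have hB : Opens.IsBasis B := Opens.isBasis_iff_nbhd.2 fun {U z} hz => by
    obtain ⟨W, hW, -, hzW, ηW, iW, eW, y, c, hiW, hc⟩ := exists_chart L η ⊤ (g z) trivial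
    obtain ⟨_, ⟨V, hV, rfl⟩, hzV, hVle⟩ := (StMod.sch 𝒴 η').isBasis_affineOpens.exists_subset_of_mem_open
      (show z ∈ ((U ⊓ g ⁻¹ᵁ W : (StMod.sch 𝒴 η').Opens) : Set _) from ⟨hz, hzW⟩) (U ⊓ g ⁻¹ᵁ W).2
    exact ⟨V, ⟨hV, W, ηW, iW, eW, y, c, hW, fun _ hq => (hVle hq).2, hiW, hc⟩, hzV,
      fun _ hq => (hVle hq).1⟩
  refine InjMod.isIso_of_basis t B hB ?_
  rintro V ⟨hV, W, ηW, iW, eW, y, c, hW, hle, hiW, hc⟩
  letI := (g.appLE W V hle).hom.toAlgebra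
  letI := Module.compHom Γ((push π F).obj η', V) (g.appLE W V hle).hom
  haveI : IsScalarTower Γ(StMod.sch 𝒴 η, W) Γ(StMod.sch 𝒴 η', V) Γ((push π F).obj η', V) :=
    IsScalarTower.of_algebraMap_smul fun _ _ => rfl
  letI := LimTop.secModule g ((push π F).obj η) hle
  haveI : IsScalarTower Γ(StMod.sch 𝒴 η, W) Γ(StMod.sch 𝒴 η', V)
      Γ((Scheme.Modules.pullback g).obj ((push π F).obj η), V) :=
    IsScalarTower.of_algebraMap_smul fun _ _ => rfl
  have b := bc_affine L hF hI hiW hc ψ hV hle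
  let e₁ := (LimTop.isBaseChange_unitSec g ((push π F).obj η) hle hW hV).equiv
  let e₂ := (show IsBaseChange Γ(StMod.sch 𝒴 η', V) (rawLin g ((push π F).map ψ rfl) W V hle) from b).equiv
  have key : ∀ w, t.app V (e₁ w) = e₂ w := by
    intro w
    induction w using TensorProduct.induction_on with
    | zero => simp
    | tmul r s =>
      simp only [e₁, e₂, IsBaseChange.equiv_tmul]
      refine (Scheme.Modules.Hom.app_smul t r _).trans (congrArg (r • ·) ?_)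
      show t.app V (LimTop.unitSec g ((push π F).obj η) hle s) =
        res ((push π F).obj η') hle (((push π F).map ψ rfl).app W s)
      rw [ht, LimTop.unitSec_apply, app_res]
      rfl
    | add a b ha hb => simp only [map_add, ha, hb]
  have : (t.app V : Γ((Scheme.Modules.pullback g).obj ((push π F).obj η), V) → Γ((push π F).obj η', V)) =
      fun x => e₂ (e₁.symm x) := funext fun x => by
    rw [← key, LinearEquiv.apply_symm_apply]
  show Function.Bijective (t.app V)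
  rw [this]
  exact e₂.bijective.comp e₁.symm.bijective

end Groth.Agent.StDesc
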