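import Groth.Agent.StModLib.FlatInj
import Groth.Agent.LimTop.PullSec
import Groth.Agent.StFib.Grpd
import Groth.Agent.StDesc.Alg
import Mathlib.AlgebraicGeometry.Morphisms.UniversallyOpen

/-!
Sections of modules on a category fibred in groupoids over schemes: restriction along morphisms,
base change for cartesian modules and gluing along flat locally finitely presented families.
-/

set_option autoImplicit false
set_option linter.style.haveILetI false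
set_option linter.unusedSectionVars false
set_option backward.isDefEq.respectTransparency false
set_option backward.isDefEq.respectTransparency.types false

universe u

open CategoryTheory CategoryTheory.Limits AlgebraicGeometry TopologicalSpace Opposite
open scoped TensorProduct
open Groth.Agent.QCoh

noncomputable section

namespace Groth.Agent.StDesc

variable {S : Scheme.{u}} {𝒳 : AlgSt.Cat S} (F : StMod.Mod 𝒳)

/-- Restriction of sections along a morphism of objects and an inclusion of opens. -/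
def pb {ξ' ξ : 𝒳.obj} (φ : ξ' ⟶ ξ) {U : (StMod.sch 𝒳 ξ).Opens} (V : (StMod.sch 𝒳 ξ').Opens)
    (h : V ≤ StMod.bmap 𝒳 φ ⁻¹ᵁ U) : Γ(F.obj ξ, U) →+ Γ(F.obj ξ', V) :=
  (res (F.obj ξ') h).hom.comp ((F.map φ rfl).app U).hom

theorem pb_apply {ξ' ξ : 𝒳.obj} (φ : ξ' ⟶ ξ) {U : (StMod.sch 𝒳 ξ).Opens} (V : (StMod.sch 𝒳 ξ').Opens)
    (h : V ≤ StMod.bmap 𝒳 φ ⁻¹ᵁ U) (s : Γ(F.obj ξ, U)) :
    pb F φ V h s = res (F.obj ξ') h ((F.map φ rfl).app U s) := rfl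

theorem pb_congr {ξ' ξ : 𝒳.obj} {φ φ' : ξ' ⟶ ξ} (e : φ = φ') {U : (StMod.sch 𝒳 ξ).Opens}
    (V : (StMod.sch 𝒳 ξ').Opens) (h : V ≤ StMod.bmap 𝒳 φ ⁻¹ᵁ U) (s : Γ(F.obj ξ, U)) :
    pb F φ V h s = pb F φ' V (e ▸ h) s := by
  subst e; rfl

theorem res_pb {ξ' ξ : 𝒳.obj} (φ : ξ' ⟶ ξ) {U : (StMod.sch 𝒳 ξ).Opens} {V V' : (StMod.sch 𝒳 ξ').Opens}
    (h : V ≤ StMod.bmap 𝒳 φ ⁻¹ᵁ U) (h' : V' ≤ V) (s : Γ(F.obj ξ, U)) :
    res (F.obj ξ') h' (pb F φ V h s) = pb F φ V' (h'.trans h) s :=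
  res_res _ _ _ _

theorem pb_res {ξ' ξ : 𝒳.obj} (φ : ξ' ⟶ ξ) {U U' : (StMod.sch 𝒳 ξ).Opens} (hU : U' ≤ U)
    (V : (StMod.sch 𝒳 ξ').Opens) (h : V ≤ StMod.bmap 𝒳 φ ⁻¹ᵁ U') (s : Γ(F.obj ξ, U)) :
    pb F φ V h (res (F.obj ξ) hU s) = pb F φ V (h.trans ((StMod.bmap 𝒳 φ).preimage_mono hU)) s := by
  rw [pb_apply, app_res (F.map φ rfl) hU s]
  exact res_res (F.obj ξ') ((StMod.bmap 𝒳 φ).preimage_mono hU) h _

theorem pb_pb {ξ'' ξ' ξ : 𝒳.obj} (ψ : ξ'' ⟶ ξ') (φ : ξ' ⟶ ξ) {U : (StMod.sch 𝒳 ξ).Opens}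
    {V : (StMod.sch 𝒳 ξ').Opens} (W : (StMod.sch 𝒳 ξ'').Opens) (h : V ≤ StMod.bmap 𝒳 φ ⁻¹ᵁ U)
    (h' : W ≤ StMod.bmap 𝒳 ψ ⁻¹ᵁ V) (h'' : W ≤ StMod.bmap 𝒳 (ψ ≫ φ) ⁻¹ᵁ U) (s : Γ(F.obj ξ, U)) :
    pb F ψ W h' (pb F φ V h s) = pb F (ψ ≫ φ) W h'' s := by
  rw [pb_apply F φ, pb_res F ψ h W h']
  have e := congrArg (fun f => (ConcreteCategory.hom f) s) (F.map_comp_app ψ φ rfl rfl U)
  have key : ∀ {g : StMod.sch 𝒳 ξ'' ⟶ StMod.sch 𝒳 ξ} (hg : StMod.bmap 𝒳 (ψ ≫ φ) = g) (hW : W ≤ g ⁻¹ᵁ U),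
      res (F.obj ξ'') hW ((F.map (ψ ≫ φ) hg).app U s) = pb F (ψ ≫ φ) W h'' s := by
    intro g hg hW; subst hg; rfl
  refine Eq.trans ?_ (key (g := StMod.bmap 𝒳 ψ ≫ StMod.bmap 𝒳 φ) (StMod.bmap_comp ψ φ)
    (h'.trans ((StMod.bmap 𝒳 ψ).preimage_mono h)))
  rw [pb_apply]
  exact congrArg (res (F.obj ξ'') _) e.symm

theorem pb_id {ξ : 𝒳.obj} {U V : (StMod.sch 𝒳 ξ).Opens} (h : V ≤ StMod.bmap 𝒳 (𝟙 ξ) ⁻¹ᵁ U)
    (h' : V ≤ U) (s : Γ(F.obj ξ, U)) : pb F (𝟙 ξ) V h s = res (F.obj ξ) h' s := by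
  have key : ∀ {g : StMod.sch 𝒳 ξ ⟶ StMod.sch 𝒳 ξ} (hg : StMod.bmap 𝒳 (𝟙 ξ) = g) (hV : V ≤ g ⁻¹ᵁ U),
      res (F.obj ξ) hV ((F.map (𝟙 ξ) hg).app U s) = pb F (𝟙 ξ) V h s := by
    intro g hg hV; subst hg; rfl
  rw [← key (StMod.bmap_id ξ) h', StMod.Mod.map_id_app]
  rfl

theorem pb_smul {ξ' ξ : 𝒳.obj} (φ : ξ' ⟶ ξ) {U : (StMod.sch 𝒳 ξ).Opens} (V : (StMod.sch 𝒳 ξ').Opens)
    (h : V ≤ StMod.bmap 𝒳 φ ⁻¹ᵁ U) (r : Γ(StMod.sch 𝒳 ξ, U)) (s : Γ(F.obj ξ, U)) :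
    pb F φ V h (r • s) = (StMod.bmap 𝒳 φ).appLE U V h r • pb F φ V h s := by
  rw [pb_apply, Scheme.Modules.Hom.app_smul]
  exact res_smul _ h ((StMod.bmap 𝒳 φ).app U r) _

theorem pb_hom {G : StMod.Mod 𝒳} (u : F ⟶ G) {ξ' ξ : 𝒳.obj} (φ : ξ' ⟶ ξ)
    {U : (StMod.sch 𝒳 ξ).Opens} (V : (StMod.sch 𝒳 ξ').Opens) (h : V ≤ StMod.bmap 𝒳 φ ⁻¹ᵁ U)
    (s : Γ(F.obj ξ, U)) : (u.app ξ').app V (pb F φ V h s) = pb G φ V h ((u.app ξ).app U s) := by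
  rw [pb_apply, pb_apply, app_res]
  exact congrArg (res (G.obj ξ') h)
    (congrArg (fun f => (ConcreteCategory.hom f) s) (congrArg (fun f => Scheme.Modules.Hom.app f U) (u.comm φ rfl)))

theorem pb_iso_bijective {ξ' ξ : 𝒳.obj} (φ : ξ' ⟶ ξ) [IsIso φ] {U : (StMod.sch 𝒳 ξ).Opens}
    {V : (StMod.sch 𝒳 ξ').Opens} (h : V ≤ StMod.bmap 𝒳 φ ⁻¹ᵁ U)
    (h' : U ≤ StMod.bmap 𝒳 (inv φ) ⁻¹ᵁ V) : Function.Bijective (pb F φ V h) := by
  refine Function.bijective_iff_has_inverse.2 ⟨pb F (inv φ) U h', fun s => ?_, fun s => ?_⟩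
  · have e : StMod.bmap 𝒳 (inv φ ≫ φ) = 𝟙 _ := by rw [IsIso.inv_hom_id, StMod.bmap_id]
    rw [pb_pb F _ _ _ h h' (by rw [e]; exact le_rfl), pb_congr F (IsIso.inv_hom_id φ), pb_id F _ le_rfl,
      res_self]
  · have e : StMod.bmap 𝒳 (φ ≫ inv φ) = 𝟙 _ := by rw [IsIso.hom_inv_id, StMod.bmap_id]
    rw [pb_pb F _ _ _ h' h (by rw [e]; exact le_rfl), pb_congr F (IsIso.hom_inv_id φ), pb_id F _ le_rfl,
      res_self]

theorem appLE_comp_apply {X Y Z : Scheme.{u}} {k : X ⟶ Z} (f : X ⟶ Y) (g : Y ⟶ Z) (hk : k = f ≫ g)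
    {U : Z.Opens} {V : Y.Opens} {W : X.Opens} (h₁ : V ≤ g ⁻¹ᵁ U) (h₂ : W ≤ f ⁻¹ᵁ V) (h : W ≤ k ⁻¹ᵁ U)
    (r : Γ(Z, U)) : f.appLE V W h₂ (g.appLE U V h₁ r) = k.appLE U W h r := by
  subst hk
  rw [← ConcreteCategory.comp_apply, Scheme.Hom.appLE_comp_appLE]

section Cartesian

variable {F} (hF : F.IsCartesian)
include hF

theorem exists_pb_eq {ξ' ξ : 𝒳.obj} (φ : ξ' ⟶ ξ) :
    ∃ e : (Scheme.Modules.pullback (StMod.bmap 𝒳 φ)).obj (F.obj ξ) ≅ F.obj ξ',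
      ∀ {U : (StMod.sch 𝒳 ξ).Opens} (V : (StMod.sch 𝒳 ξ').Opens) (h : V ≤ StMod.bmap 𝒳 φ ⁻¹ᵁ U)
        (s : Γ(F.obj ξ, U)),
        pb F φ V h s = e.hom.app V (LimTop.unitSec (StMod.bmap 𝒳 φ) (F.obj ξ) h s) := by
  let g := StMod.bmap 𝒳 φ
  let t := ((Scheme.Modules.pullbackPushforwardAdjunction g).homEquiv _ _).symm (F.map φ rfl)
  haveI : IsIso t := hF φ rfl
  refine ⟨asIso t, fun {U} V h s => ?_⟩
  have ht : F.map φ rfl = (Scheme.Modules.pullbackPushforwardAdjunction g).unit.app (F.obj ξ) ≫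
      (Scheme.Modules.pushforward g).map t := by
    exact ((((Scheme.Modules.pullbackPushforwardAdjunction g).homEquiv _ _).apply_symm_apply _).symm).trans
      (Adjunction.homEquiv_unit _ _ _ t)
  rw [pb_apply, ht, LimTop.unitSec_apply, asIso_hom, app_res]
  rfl

/-- Over affine opens, sections of a cartesian quasi-coherent module are obtained by base change. -/
theorem isBaseChange_pb {ξ' ξ : 𝒳.obj} (φ : ξ' ⟶ ξ) [(F.obj ξ).IsQuasicoherent]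
    {U : (StMod.sch 𝒳 ξ).Opens} {V : (StMod.sch 𝒳 ξ').Opens} (h : V ≤ StMod.bmap 𝒳 φ ⁻¹ᵁ U)
    (hU : IsAffineOpen U) (hV : IsAffineOpen V) :
    letI := ((StMod.bmap 𝒳 φ).appLE U V h).hom.toAlgebra
    letI := Module.compHom Γ(F.obj ξ', V) ((StMod.bmap 𝒳 φ).appLE U V h).hom
    haveI : IsScalarTower Γ(StMod.sch 𝒳 ξ, U) Γ(StMod.sch 𝒳 ξ', V) Γ(F.obj ξ', V) :=
      IsScalarTower.of_algebraMap_smul fun _ _ => rfl
    ∀ (f : Γ(F.obj ξ, U) →ₗ[Γ(StMod.sch 𝒳 ξ, U)] Γ(F.obj ξ', V)), (∀ s, f s = pb F φ V h s) →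
      IsBaseChange Γ(StMod.sch 𝒳 ξ', V) f := by
  let g := StMod.bmap 𝒳 φ
  letI := (g.appLE U V h).hom.toAlgebra
  letI := Module.compHom Γ(F.obj ξ', V) (g.appLE U V h).hom
  haveI : IsScalarTower Γ(StMod.sch 𝒳 ξ, U) Γ(StMod.sch 𝒳 ξ', V) Γ(F.obj ξ', V) :=
    IsScalarTower.of_algebraMap_smul fun _ _ => rfl
  intro f hf
  letI := LimTop.secModule g (F.obj ξ) h
  haveI : IsScalarTower Γ(StMod.sch 𝒳 ξ, U) Γ(StMod.sch 𝒳 ξ', V)
      Γ((Scheme.Modules.pullback g).obj (F.obj ξ), V) := IsScalarTower.of_algebraMap_smul fun _ _ => rfl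
  obtain ⟨e, he⟩ := exists_pb_eq hF φ
  let e' := (LimTop.isBaseChange_unitSec g (F.obj ξ) h hU hV).equiv.trans
    ({ (asIso (e.hom.app V)).addCommGroupIsoToAddEquiv with
        map_smul' := fun r x => Scheme.Modules.Hom.app_smul e.hom r x } :
      Γ((Scheme.Modules.pullback g).obj (F.obj ξ), V) ≃ₗ[Γ(StMod.sch 𝒳 ξ', V)] Γ(F.obj ξ', V))
  refine IsBaseChange.of_equiv e' fun s => ?_
  simp only [e', LinearEquiv.trans_apply, IsBaseChange.equiv_tmul, one_smul]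
  exact ((hf s).trans (he V h s)).symm

end Cartesian

section Lift

variable (h𝒳 : FibCat.IsFibGrpd 𝒳.p)
include h𝒳

theorem exists_lift_mor (ξ : 𝒳.obj) {Z : Scheme.{u}} (f : Z ⟶ StMod.sch 𝒳 ξ) :
    ∃ (ξ' : 𝒳.obj) (φ : ξ' ⟶ ξ) (e : StMod.sch 𝒳 ξ' ≅ Z), StMod.bmap 𝒳 φ = e.hom ≫ f := by
  obtain ⟨y, e, φ, hφ⟩ := StFib.grpd_exists_lift h𝒳 ξ
    (Over.homMk f rfl : Over.mk (f ≫ (𝒳.p.obj ξ).hom) ⟶ 𝒳.p.obj ξ)
  refine ⟨y, φ, (Over.forget S).mapIso (eqToIso e), ?_⟩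
  exact congrArg CommaMorphism.left hφ

theorem exists_fac {y x z : 𝒳.obj} (φ : y ⟶ x) (ψ : z ⟶ x) (c : StMod.sch 𝒳 z ⟶ StMod.sch 𝒳 y)
    (hc : c ≫ StMod.bmap 𝒳 φ = StMod.bmap 𝒳 ψ) :
    ∃ χ : z ⟶ y, χ ≫ φ = ψ ∧ StMod.bmap 𝒳 χ = c := by
  have hw : c ≫ (𝒳.p.obj y).hom = (𝒳.p.obj z).hom := by
    rw [← Over.w (𝒳.p.map φ), ← Over.w (𝒳.p.map ψ)]
    exact (Category.assoc _ _ _).symm.trans (congrArg (· ≫ (𝒳.p.obj x).hom) hc)
  obtain ⟨χ, h1, h2⟩ := StFib.grpd_exists_fac h𝒳 φ ψ (Over.homMk c hw) (Over.OverMorphism.ext hc)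
  exact ⟨χ, h2, congrArg CommaMorphism.left h1⟩

theorem hom_ext_bmap {y x z : 𝒳.obj} (φ : y ⟶ x) {χ χ' : z ⟶ y} (h1 : χ ≫ φ = χ' ≫ φ)
    (h2 : StMod.bmap 𝒳 χ = StMod.bmap 𝒳 χ') : χ = χ' :=
  StFib.grpd_cancel h𝒳 φ h1 (Over.OverMorphism.ext h2)

end Lift

/-- Two sections of a cartesian module agreeing on a flat jointly surjective family are equal. -/
theorem ext_flat {F} (hF : StMod.Mod.IsCartesian (𝒳 := 𝒳) F) {ξ : 𝒳.obj} {U : (StMod.sch 𝒳 ξ).Opens}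
    (s t : Γ(F.obj ξ, U))
    (h : ∀ y ∈ U, ∃ (ξ' : 𝒳.obj) (ψ : ξ' ⟶ ξ), Flat (StMod.bmap 𝒳 ψ) ∧
      y ∈ Set.range (StMod.bmap 𝒳 ψ) ∧ pb F ψ _ le_rfl s = pb F ψ _ le_rfl t) : s = t := by
  refine sub_eq_zero.1 (StModLib.eq_zero_of_flat_family hF U _ fun y hy => ?_)
  obtain ⟨ξ', ψ, h1, h2, h3⟩ := h y hy
  refine ⟨ξ', ψ, h1, h2, ?_⟩
  rw [← sub_eq_zero, ← map_sub, pb_apply] at h3
  exact (res_self (F.obj ξ') le_rfl _).symm.trans h3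

/-- Amitsur exactness for sections: descent of a global section along a flat surjection of affines. -/
theorem exists_descend_top (h𝒳 : FibCat.IsFibGrpd 𝒳.p) (hF : StMod.isQCoh 𝒳 F) {η ξ : 𝒳.obj}
    (α : η ⟶ ξ) [IsAffine (StMod.sch 𝒳 η)] [IsAffine (StMod.sch 𝒳 ξ)] [Flat (StMod.bmap 𝒳 α)]
    [Surjective (StMod.bmap 𝒳 α)] (t : Γ(F.obj η, ⊤))
    (hc : ∀ (ζ : 𝒳.obj) (a b : ζ ⟶ η), a ≫ α = b ≫ α → pb F a ⊤ le_top t = pb F b ⊤ le_top t) :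
    ∃ s : Γ(F.obj ξ, ⊤), pb F α ⊤ le_top s = t := by
  let g := StMod.bmap 𝒳 α
  obtain ⟨ζ, a, e, ha⟩ := exists_lift_mor h𝒳 η (pullback.fst g g)
  obtain ⟨b, hb, hb'⟩ := exists_fac h𝒳 α (a ≫ α) (e.hom ≫ pullback.snd g g)
    (by rw [Category.assoc, ← pullback.condition, StMod.bmap_comp, ha, Category.assoc])
  have hsq : IsPullback (StMod.bmap 𝒳 a) (StMod.bmap 𝒳 b) g g :=
    IsPullback.of_iso (IsPullback.of_hasPullback g g) e.symm (Iso.refl _) (Iso.refl _) (Iso.refl _)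
      (by simp [ha]) (by simp [hb']) (by simp) (by simp)
  haveI : IsAffine (StMod.sch 𝒳 ζ) := .of_isPullback hsq
  haveI : (F.obj ξ).IsQuasicoherent := hF.2 ξ
  let R := Γ(StMod.sch 𝒳 ξ, ⊤)
  let B := Γ(StMod.sch 𝒳 η, ⊤)
  let C := Γ(StMod.sch 𝒳 ζ, ⊤)
  have hab : StMod.bmap 𝒳 (a ≫ α) = StMod.bmap 𝒳 b ≫ g := by rw [← hb, StMod.bmap_comp]
  letI aB : Algebra R B := (g.appLE ⊤ ⊤ le_top).hom.toAlgebra
  letI aC : Algebra R C := ((StMod.bmap 𝒳 (a ≫ α)).appLE ⊤ ⊤ le_top).hom.toAlgebra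
  letI := Module.compHom Γ(F.obj η, ⊤) (g.appLE ⊤ ⊤ le_top).hom
  letI := Module.compHom Γ(F.obj ζ, ⊤) ((StMod.bmap 𝒳 (a ≫ α)).appLE ⊤ ⊤ le_top).hom
  haveI : IsScalarTower R B Γ(F.obj η, ⊤) := IsScalarTower.of_algebraMap_smul fun _ _ => rfl
  haveI : IsScalarTower R C Γ(F.obj ζ, ⊤) := IsScalarTower.of_algebraMap_smul fun _ _ => rfl
  let la : B →ₐ[R] C :=
    { ((StMod.bmap 𝒳 a).appLE ⊤ ⊤ le_top).hom with
      commutes' := fun r => appLE_comp_apply _ g (StMod.bmap_comp a α) le_top le_top le_top r }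
  let lb : B →ₐ[R] C :=
    { ((StMod.bmap 𝒳 b).appLE ⊤ ⊤ le_top).hom with
      commutes' := fun r => appLE_comp_apply _ g hab le_top le_top le_top r }
  haveI : Module.FaithfullyFlat R B := by
    rw [← RingHom.faithfullyFlat_algebraMap_iff]
    show (g.appLE ⊤ ⊤ le_top).hom.FaithfullyFlat
    rw [show g.appLE ⊤ ⊤ le_top = g.appTop from (Scheme.Hom.app_eq_appLE g).symm]
    exact (Flat.flat_and_surjective_iff_faithfullyFlat_of_isAffine g).1 ⟨inferInstance, inferInstance⟩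
  let f₁ : Γ(F.obj ξ, ⊤) →ₗ[R] Γ(F.obj η, ⊤) :=
    { toFun := pb F α ⊤ le_top
      map_add' := map_add _
      map_smul' := fun r s => pb_smul F α ⊤ le_top r s }
  let f₂ : Γ(F.obj ξ, ⊤) →ₗ[R] Γ(F.obj ζ, ⊤) :=
    { toFun := pb F (a ≫ α) ⊤ le_top
      map_add' := map_add _
      map_smul' := fun r s => pb_smul F (a ≫ α) ⊤ le_top r s }
  have bc₁ : IsBaseChange B f₁ := isBaseChange_pb hF.1 α (U := ⊤) (V := ⊤) le_top (isAffineOpen_top _)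
    (isAffineOpen_top _) f₁ fun _ => rfl
  have bc₂ : IsBaseChange C f₂ := isBaseChange_pb hF.1 (a ≫ α) (U := ⊤) (V := ⊤) le_top (isAffineOpen_top _)
    (isAffineOpen_top _) f₂ fun _ => rfl
  let φ : B ⊗[R] B →ₐ[R] C := Algebra.TensorProduct.lift la lb fun _ _ => Commute.all _ _
  have hφ : Function.Bijective φ := by
    have e1 : ∀ {X Y : Scheme.{u}} (f : X ⟶ Y), f.appLE ⊤ ⊤ le_top = f.appTop :=
      fun f => (Scheme.Hom.app_eq_appLE f).symm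
    have hp : IsPushout (g.appLE ⊤ ⊤ le_top) (g.appLE ⊤ ⊤ le_top)
        ((StMod.bmap 𝒳 a).appLE ⊤ ⊤ le_top) ((StMod.bmap 𝒳 b).appLE ⊤ ⊤ le_top) := by
      rw [e1, e1, e1]
      exact isPushout_appTop_of_isPullback hsq
    have hp' : IsPushout (CommRingCat.ofHom (algebraMap R B)) (CommRingCat.ofHom (algebraMap R B))
        (CommRingCat.ofHom la.toRingHom) (CommRingCat.ofHom lb.toRingHom) := hp
    let i := (CommRingCat.isPushout_tensorProduct R B B).isoPushout ≪≫ hp'.isoPushout.symm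
    let ψ : B ⊗[R] B ≃+* C := i.commRingCatIsoToRingEquiv
    have hl : ∀ x, ψ (Algebra.TensorProduct.includeLeftRingHom x) = la x := fun x =>
      congrArg (fun f => (ConcreteCategory.hom f) x)
        (show CommRingCat.ofHom Algebra.TensorProduct.includeLeftRingHom ≫ i.hom = CommRingCat.ofHom la.toRingHom by
          simp [i])
    have hr : ∀ x, ψ (Algebra.TensorProduct.includeRight.toRingHom x) = lb x := fun x =>
      congrArg (fun f => (ConcreteCategory.hom f) x)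
        (show CommRingCat.ofHom Algebra.TensorProduct.includeRight.toRingHom ≫ i.hom = CommRingCat.ofHom lb.toRingHom by
          simp [i])
    have : (φ : B ⊗[R] B → C) = ψ := by
      funext z
      induction z using TensorProduct.induction_on with
      | zero => simp
      | tmul x y =>
        rw [show x ⊗ₜ[R] y = (Algebra.TensorProduct.includeLeftRingHom x) *
          (Algebra.TensorProduct.includeRight.toRingHom y) by simp, map_mul, map_mul ψ, hl, hr]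
        simp [φ]
      | add x y hx hy => simp [hx, hy]
    rw [this]
    exact ψ.bijective
  let Φ : (B ⊗[R] B) ⊗[R] Γ(F.obj ξ, ⊤) →ₗ[R] Γ(F.obj ζ, ⊤) :=
    (bc₂.equiv.restrictScalars R).toLinearMap ∘ₗ φ.toLinearMap.rTensor _
  have hΦ : Function.Injective Φ :=
    (bc₂.equiv.injective).comp
      (TensorProduct.congr (LinearEquiv.ofBijective φ.toLinearMap hφ) (LinearEquiv.refl R _)).injective
  have key : ∀ (c : ζ ⟶ η) (l : B →ₐ[R] C) (i : B →ₐ[R] B ⊗[R] B), c ≫ α = a ≫ α → φ.comp i = l →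
      (∀ x, l x = (StMod.bmap 𝒳 c).appLE ⊤ ⊤ le_top x) →
      ∀ n, Φ (i.toLinearMap.rTensor _ n) = pb F c ⊤ le_top (bc₁.equiv n) := by
    intro c l i hcα hi hl n
    induction n using TensorProduct.induction_on with
    | zero => simp
    | tmul x m =>
      simp only [Φ, LinearMap.comp_apply, LinearMap.rTensor_tmul, LinearEquiv.coe_coe,
        LinearEquiv.restrictScalars_apply, AlgHom.toLinearMap_apply, IsBaseChange.equiv_tmul, f₁, f₂,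
        LinearMap.coe_mk, AddHom.coe_mk, pb_smul]
      refine Eq.trans ?_ (pb_smul F c ⊤ le_top x _).symm
      refine congrArg₂ (fun r s => r • s) ((DFunLike.congr_fun hi x).trans (hl x)) ?_
      exact ((pb_pb F c α ⊤ le_top le_top le_top m).trans (pb_congr F hcα ⊤ le_top m)).symm
    | add n n' hn hn' => simp only [map_add, hn, hn']
  obtain ⟨m, hm⟩ := exists_one_tmul B (bc₁.equiv.symm t) (hΦ (by
    rw [key a la _ rfl (Algebra.TensorProduct.lift_comp_includeLeft ..) (fun _ => rfl),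
      key b lb _ hb (Algebra.TensorProduct.lift_comp_includeRight' ..) (fun _ => rfl),
      LinearEquiv.apply_symm_apply]
    exact hc ζ a b hb.symm))
  refine ⟨m, ?_⟩
  have := congrArg bc₁.equiv hm
  rwa [IsBaseChange.equiv_tmul, one_smul, LinearEquiv.apply_symm_apply] at this

end Groth.Agent.StDesc
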