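import Groth.Agent.StDesc.Desc
import Groth.Agent.StDesc.Twisted

/-!
Twisted modules on a banded gerbe over a scheme with a section.
-/

set_option autoImplicit false
set_option linter.style.haveILetI false
set_option linter.unusedSectionVars false
set_option backward.isDefEq.respectTransparency false
set_option backward.isDefEq.respectTransparency.types false

universe u

open CategoryTheory CategoryTheory.Limits AlgebraicGeometry TopologicalSpace Opposite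
open Groth.Agent.QCoh

noncomputable section

namespace Groth.Agent.StDesc

section Twist

variable {S : Scheme.{u}} {𝒳 : AlgSt.Cat S}

/-- A multiplicative cocycle of global functions on the sources of morphisms. -/
structure Cocycle (𝒳 : AlgSt.Cat S) where
  /-- the value on a morphism -/
  val : ∀ {x' x : 𝒳.obj}, (x' ⟶ x) → Γ(StMod.sch 𝒳 x', ⊤)ˣ
  map_id : ∀ x : 𝒳.obj, val (𝟙 x) = 1
  map_comp : ∀ {x'' x' x : 𝒳.obj} (ψ : x'' ⟶ x') (φ : x' ⟶ x),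
    (val (ψ ≫ φ)).val = (val ψ).val * (StMod.bmap 𝒳 ψ).appTop (val φ).val

theorem appLE_resTop {X Y : Scheme.{u}} (g : X ⟶ Y) {U : Y.Opens} {V : X.Opens} (h : V ≤ g ⁻¹ᵁ U)
    (r : Γ(Y, ⊤)) : g.appLE U V h (TwSh.resTop Y U r) = TwSh.resTop X V (g.appTop r) := by
  show (Y.presheaf.map _ ≫ g.appLE U V h) r = (g.appTop ≫ X.presheaf.map _) r
  rw [Scheme.Hom.map_appLE]
  rfl

theorem isIso_scalarEnd {X : Scheme.{u}} (M : X.Modules) (u : Γ(X, ⊤)ˣ) : IsIso (TwSh.scalarEnd M u.val) := by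
  refine ⟨TwSh.scalarEnd M u⁻¹.val, ?_, ?_⟩ <;>
  · apply Scheme.Modules.hom_ext
    intro U
    refine ConcreteCategory.hom_ext _ _ fun (s : Γ(M, U)) => ?_
    show TwSh.resTop X U _ • TwSh.resTop X U _ • s = s
    rw [smul_smul, ← map_mul]
    simp

/-- A module with comparison maps scaled by a cocycle. -/
def twistMod (P : StMod.Mod 𝒳) (c : Cocycle 𝒳) : StMod.Mod 𝒳 where
  obj := P.obj
  map {ξ' ξ} φ g hg :=
    P.map φ hg ≫ (Scheme.Modules.pushforward g).map (TwSh.scalarEnd (P.obj ξ') (c.val φ).val)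
  map_id ξ := by
    apply Scheme.Modules.hom_ext
    intro U
    refine ConcreteCategory.hom_ext _ _ fun (s : Γ(P.obj ξ, U)) => ?_
    show TwSh.resTop (StMod.sch 𝒳 ξ) U (c.val (𝟙 ξ)).val • (P.map (𝟙 ξ) (StMod.bmap_id ξ)).app U s = s
    rw [c.map_id, Units.val_one, map_one, one_smul, StMod.Mod.map_id_app]
    rfl
  map_comp {ξ'' ξ' ξ} ψ φ h g hh hg := by
    subst hh hg
    apply Scheme.Modules.hom_ext
    intro U
    refine ConcreteCategory.hom_ext _ _ fun (s : Γ(P.obj ξ, U)) => ?_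
    show TwSh.resTop (StMod.sch 𝒳 ξ'') (StMod.bmap 𝒳 ψ ⁻¹ᵁ (StMod.bmap 𝒳 φ ⁻¹ᵁ U)) (c.val (ψ ≫ φ)).val •
        (show Γ(P.obj ξ'', StMod.bmap 𝒳 ψ ⁻¹ᵁ (StMod.bmap 𝒳 φ ⁻¹ᵁ U)) from
          (P.map (ψ ≫ φ) (StMod.bmap_comp ψ φ)).app U s) =
      TwSh.resTop (StMod.sch 𝒳 ξ'') (StMod.bmap 𝒳 ψ ⁻¹ᵁ (StMod.bmap 𝒳 φ ⁻¹ᵁ U)) (c.val ψ).val •
        (show Γ(P.obj ξ'', StMod.bmap 𝒳 ψ ⁻¹ᵁ (StMod.bmap 𝒳 φ ⁻¹ᵁ U)) from
          (P.map ψ rfl).app (StMod.bmap 𝒳 φ ⁻¹ᵁ U)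
            (TwSh.resTop (StMod.sch 𝒳 ξ') (StMod.bmap 𝒳 φ ⁻¹ᵁ U) (c.val φ).val •
              (show Γ(P.obj ξ', StMod.bmap 𝒳 φ ⁻¹ᵁ U) from (P.map φ rfl).app U s)))
    have hs : (show Γ(P.obj ξ'', StMod.bmap 𝒳 ψ ⁻¹ᵁ (StMod.bmap 𝒳 φ ⁻¹ᵁ U)) from
          (P.map ψ rfl).app (StMod.bmap 𝒳 φ ⁻¹ᵁ U)
            (TwSh.resTop (StMod.sch 𝒳 ξ') (StMod.bmap 𝒳 φ ⁻¹ᵁ U) (c.val φ).val •
              (show Γ(P.obj ξ', StMod.bmap 𝒳 φ ⁻¹ᵁ U) from (P.map φ rfl).app U s))) =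
        (StMod.bmap 𝒳 ψ).app (StMod.bmap 𝒳 φ ⁻¹ᵁ U)
          (TwSh.resTop (StMod.sch 𝒳 ξ') (StMod.bmap 𝒳 φ ⁻¹ᵁ U) (c.val φ).val) •
        (show Γ(P.obj ξ'', StMod.bmap 𝒳 ψ ⁻¹ᵁ (StMod.bmap 𝒳 φ ⁻¹ᵁ U)) from
          (P.map ψ rfl).app (StMod.bmap 𝒳 φ ⁻¹ᵁ U) ((P.map φ rfl).app U s)) :=
      Scheme.Modules.Hom.app_smul _ _ _
    rw [hs, c.map_comp, map_mul, mul_smul]
    refine congrArg _ (congrArg₂ (· • ·) ?_ (congrArg (fun f => (ConcreteCategory.hom f) s)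
      (P.map_comp_app ψ φ rfl rfl U)))
    rw [Scheme.Hom.app_eq_appLE]
    exact (appLE_resTop _ le_rfl _).symm

variable (P : StMod.Mod 𝒳) (c : Cocycle 𝒳)

theorem twistMod_map {ξ' ξ : 𝒳.obj} (φ : ξ' ⟶ ξ) {g : StMod.sch 𝒳 ξ' ⟶ StMod.sch 𝒳 ξ}
    (hg : StMod.bmap 𝒳 φ = g) :
    (twistMod P c).map φ hg =
      P.map φ hg ≫ (Scheme.Modules.pushforward g).map (TwSh.scalarEnd (P.obj ξ') (c.val φ).val) := rfl

theorem isQCoh_twistMod {P : StMod.Mod 𝒳} (hP : StMod.isQCoh 𝒳 P) : StMod.isQCoh 𝒳 (twistMod P c) := by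
  refine ⟨fun ξ' ξ φ g hg => ?_, hP.2⟩
  rw [twistMod_map]
  refine (Adjunction.homEquiv_naturality_right_symm _ (X := P.obj ξ) (P.map φ hg) _).symm ▸ ?_
  exact @IsIso.comp_isIso _ _ _ _ _ _ _ (hP.1 φ hg) (isIso_scalarEnd (P.obj ξ') (c.val φ))

theorem pb_twistMod {ξ' ξ : 𝒳.obj} (φ : ξ' ⟶ ξ) {U : (StMod.sch 𝒳 ξ).Opens}
    (V : (StMod.sch 𝒳 ξ').Opens) (h : V ≤ StMod.bmap 𝒳 φ ⁻¹ᵁ U) (s : Γ(P.obj ξ, U)) :
    pb (twistMod P c) φ V h s = TwSh.resTop (StMod.sch 𝒳 ξ') V (c.val φ).val • pb P φ V h s := by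
  show res (P.obj ξ') h (TwSh.resTop (StMod.sch 𝒳 ξ') (StMod.bmap 𝒳 φ ⁻¹ᵁ U) (c.val φ).val •
    (show Γ(P.obj ξ', StMod.bmap 𝒳 φ ⁻¹ᵁ U) from (P.map φ rfl).app U s)) = _
  rw [res_smul]
  congr 1
  rw [← CommRingCat.comp_apply, ← Functor.map_comp]
  rfl

end Twist

section Congr

variable {S : Scheme.{u}} {𝒳 𝒴 : AlgSt.Cat S} (f : 𝒴 ⥤ᵇ 𝒳) (G : StMod.Mod 𝒳)

theorem comap_map_congr {y' y : 𝒴.obj} {φ φ' : y' ⟶ y} (e : f.map φ = f.map φ')
    {g : StMod.sch 𝒴 y' ⟶ StMod.sch 𝒴 y} (hg : StMod.bmap 𝒴 φ = g) (hg' : StMod.bmap 𝒴 φ' = g) :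
    (StMod.Mod.comap f G).map φ hg = (StMod.Mod.comap f G).map φ' hg' := by
  have key : ∀ {a b : f.obj y' ⟶ f.obj y} (_ : a = b)
      (ha : StMod.bmap 𝒳 a ≫ eqToHom (StMod.sch_obj_eq f y) = eqToHom (StMod.sch_obj_eq f y') ≫ g)
      (hb : StMod.bmap 𝒳 b ≫ eqToHom (StMod.sch_obj_eq f y) = eqToHom (StMod.sch_obj_eq f y') ≫ g),
      StMod.castMap (StMod.sch_obj_eq f y) (StMod.sch_obj_eq f y') ha (G.map a rfl) =
        StMod.castMap (StMod.sch_obj_eq f y) (StMod.sch_obj_eq f y') hb (G.map b rfl) := by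
    intro a b hab ha hb; subst hab; rfl
  exact key e _ _

end Congr

section CompId

variable {S : Scheme.{u}} {𝒴 : AlgSt.Cat S}

/-- Inverse image along a functor isomorphic to the identity is isomorphic to the identity. -/
theorem nonempty_comap_iso_self (h𝒴 : FibCat.IsFibGrpd 𝒴.p) {f : 𝒴 ⥤ᵇ 𝒴} (e : f ≅ BasedFunctor.id 𝒴)
    (G : StMod.Mod 𝒴) : Nonempty (StMod.Mod.comap f G ≅ G) := by
  let ε : ∀ y, f.obj y ≅ y := fun y => StFib.isoApp e y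
  have hb : ∀ y, StMod.bmap 𝒴 (ε y).inv = eqToHom (StMod.sch_obj_eq f y).symm := fun y => by
    obtain ⟨h, hh⟩ := StFib.vert_isoApp_inv e y
    show CommaMorphism.left (𝒴.p.map (ε y).inv) = _
    have key : ∀ {a b : Over S} (h : a = b), (eqToHom h).left = eqToHom (congrArg Comma.left h) := by
      intro a b h; subst h; rfl
    rw [show 𝒴.p.map (ε y).inv = _ from hh]
    exact key h
  have hE : ∀ y, IsIso (G.map (ε y).inv (g := StMod.bmap 𝒴 (ε y).inv) rfl) := fun y =>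
    exists_cast_iso (StMod.sch_obj_eq f y) _ (hb y) _ fun U => by
      have h' : U ≤ StMod.bmap 𝒴 (inv (ε y).inv) ⁻¹ᵁ (StMod.bmap 𝒴 (ε y).inv ⁻¹ᵁ U) := fun z hz => by
        show (StMod.bmap 𝒴 (inv (ε y).inv) ≫ StMod.bmap 𝒴 (ε y).inv) z ∈ U
        rw [← StMod.bmap_comp, IsIso.inv_hom_id, StMod.bmap_id]
        exact hz
      have := pb_iso_bijective G (ε y).inv (U := U) (V := StMod.bmap 𝒴 (ε y).inv ⁻¹ᵁ U) le_rfl h'
      rw [show (pb G (ε y).inv _ le_rfl : Γ(G.obj (f.obj y), U) → _) =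
        (G.map (ε y).inv rfl).app U from funext fun s => res_self _ le_rfl _] at this
      exact this
  refine ⟨StMod.Mod.isoMk (fun y => haveI := hE y
    castIso (StMod.sch_obj_eq f y) _ (hb y) (G.map (ε y).inv (g := StMod.bmap 𝒴 (ε y).inv) rfl)) ?_⟩
  intro y' y φ g hg
  subst hg
  haveI := hE y
  haveI := hE y'
  refine castIso_comm _ _ _ _ (hb y) _ (hb y') _ _ _ _ fun U h s => ?_
  have hn : (ε y').inv ≫ f.map φ = φ ≫ (ε y).inv := by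
    rw [Iso.inv_comp_eq, ← Category.assoc, Iso.eq_comp_inv]
    exact StFib.isoApp_naturality e φ
  have hV : StMod.bmap 𝒴 (ε y').inv ⁻¹ᵁ (StMod.bmap 𝒴 (f.map φ) ⁻¹ᵁ U) ≤
      StMod.bmap 𝒴 ((ε y').inv ≫ f.map φ) ⁻¹ᵁ U := by rw [StMod.bmap_comp]; exact le_rfl
  have e1 := pb_pb G (ε y').inv (f.map φ) _ le_rfl le_rfl hV s
  have e2 := pb_pb G φ (ε y).inv _ le_rfl h.le (hn ▸ hV) s
  rw [pb_congr G hn, ← e2] at e1
  rw [pb_apply, pb_apply, pb_apply, pb_apply, res_self, res_self, res_self] at e1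
  exact e1.symm

end CompId

section Sec

variable {S : Scheme.{u}} {X : Over S} {𝒳 : AlgSt.Cat S} (σ : AlgSt.ofSch X ⥤ᵇ 𝒳)

/-- The full subcategory of the values of a section, indexed by the objects of the base. -/
def secCat : AlgSt.Cat S where
  obj := InducedCategory 𝒳.obj σ.obj
  p := inducedFunctor σ.obj ⋙ 𝒳.p

/-- Its inclusion. -/
def secIncl : secCat σ ⥤ᵇ 𝒳 where
  toFunctor := inducedFunctor σ.obj
  w := rfl

/-- The section as a functor to it. -/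
def secFun : AlgSt.ofSch X ⥤ᵇ secCat σ where
  toFunctor :=
    { obj := fun y => y
      map := fun f => InducedCategory.homMk (σ.map f)
      map_id := fun y => InducedCategory.hom_ext (σ.toFunctor.map_id y)
      map_comp := fun f g => InducedCategory.hom_ext (σ.toFunctor.map_comp f g) }
  w := σ.w

theorem ofSch_fib : FibCat.IsFibGrpd (AlgSt.ofSch X).p := Stk.isFibGrpd_ofPsh _

theorem ofSch_map_eq {a b : (AlgSt.ofSch X).obj} {f g : a ⟶ b}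
    (h : (AlgSt.ofSch X).p.map f = (AlgSt.ofSch X).p.map g) : f = g :=
  Stk.EltObj.hom_ext h

theorem map_eq_of_p {π : 𝒳 ⥤ᵇ AlgSt.ofSch X} {a b : 𝒳.obj} {f g : a ⟶ b} (h : 𝒳.p.map f = 𝒳.p.map g) :
    π.map f = π.map g :=
  ofSch_map_eq (by rw [StFib.w_map, StFib.w_map, h])

theorem isFibGrpd_secCat (h𝒳 : FibCat.IsFibGrpd 𝒳.p) : FibCat.IsFibGrpd (secCat σ).p where
  exists_lift {y} {V} f := by
    let y₁ : (AlgSt.ofSch X).obj := y
    obtain ⟨y', h, ψ, hψ⟩ := StFib.grpd_exists_lift (ofSch_fib (X := X)) y₁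
      (f ≫ eqToHom (σ.w_obj y₁))
    refine ⟨y', InducedCategory.homMk (σ.map ψ), ?_⟩
    refine IsHomLift.of_fac' _ _ _ ((σ.w_obj y').trans h) rfl ?_
    show 𝒳.p.map (σ.map ψ) = _
    rw [StFib.w_map, hψ]
    simp
  isStronglyCartesian {y x} φ :=
    { toIsHomLift := IsHomLift.map (secCat σ).p φ
      universal_property' := fun {a'} g φ' hφ' => by
        haveI := h𝒳.isStronglyCartesian φ.hom
        haveI : 𝒳.p.IsHomLift (g ≫ 𝒳.p.map φ.hom) φ'.hom :=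
          IsHomLift.of_fac' _ _ _ rfl rfl (@IsHomLift.fac' _ _ _ _ (secCat σ).p _ _ _ _ _ φ' hφ')
        obtain ⟨χ, ⟨hχ, hχφ⟩, huniq⟩ := Functor.IsStronglyCartesian.universal_property' (p := 𝒳.p)
          (f := 𝒳.p.map φ.hom) (φ := φ.hom) g φ'.hom
        refine ⟨InducedCategory.homMk χ, ⟨?_, InducedCategory.hom_ext hχφ⟩, ?_⟩
        · exact IsHomLift.of_fac' _ _ _ rfl rfl (@IsHomLift.fac' _ _ _ _ 𝒳.p _ _ _ _ _ χ hχ)
        · rintro χ' ⟨h1, h2⟩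
          refine InducedCategory.hom_ext (huniq χ'.hom ⟨?_, congrArg InducedCategory.Hom.hom h2⟩)
          exact IsHomLift.of_fac' _ _ _ rfl rfl (@IsHomLift.fac' _ _ _ _ (secCat σ).p _ _ _ _ _ χ' h1) }

variable {π : 𝒳 ⥤ᵇ AlgSt.ofSch X} {A : (Over S)ᵒᵖ ⥤ GrpCat.{u}} {ι : TwSh.BandHom 𝒳 A}

/-- The inclusion of the values of a section of a gerbe is a local equivalence. -/
theorem isLocEquiv_secIncl (h𝒳 : FibCat.IsFibGrpd 𝒳.p)
    (hπ : TwSh.IsBandedGerbe (QuotSh.J Scheme.fppfPrecoverage S) π ι)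
    (e : BasedFunctor.comp σ π ≅ BasedFunctor.id (AlgSt.ofSch X)) : LocEquiv (secIncl σ) := by
  refine ⟨isFibGrpd_secCat σ h𝒳, h𝒳, fun ξ => ?_, fun y y' b hb => ?_⟩
  · let y₀ := π.obj ξ
    obtain ⟨hv, hv'⟩ := StFib.vert_isoApp e y₀
    have hlift : (AlgSt.ofSch X).p.IsHomLift (𝟙 (𝒳.p.obj (σ.obj y₀))) (StFib.isoApp e y₀).hom :=
      (StFib.vert_isoApp e y₀).isHomLift (π.w_obj _)
    obtain ⟨R, hR, hsieve⟩ := hπ.1.2 (σ.obj y₀) ξ (StFib.isoApp e y₀).hom hlift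
    have heq : 𝒳.p.obj ξ = 𝒳.p.obj (σ.obj y₀) := by rw [σ.w_obj, ← π.w_obj]
    refine ⟨R.pullback (eqToHom heq), GrothendieckTopology.pullback_stable _ _ hR, fun {V} f hf => ?_⟩
    obtain ⟨x₀, φ, ψ, hφ, hψ, -⟩ := hsieve (f ≫ eqToHom heq) hf
    obtain ⟨z, hz, q, hq⟩ := StFib.grpd_exists_lift (ofSch_fib (X := X)) y₀
      (f ≫ eqToHom heq ≫ eqToHom (σ.w_obj y₀))
    have hx₀ : 𝒳.p.obj x₀ = V := IsHomLift.domain_eq 𝒳.p (f ≫ eqToHom heq) φ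
    have hσz : 𝒳.p.obj (σ.obj z) = 𝒳.p.obj x₀ := by rw [σ.w_obj, hz, hx₀]
    obtain ⟨χ, hχ, -⟩ := StFib.grpd_exists_fac h𝒳 φ (σ.map q) (eqToHom hσz) (by
      rw [IsHomLift.fac' 𝒳.p (f ≫ eqToHom heq) φ, StFib.w_map, hq]
      simp)
    refine ⟨z, χ ≫ ψ, IsHomLift.of_fac' _ _ _ ((σ.w_obj z).trans hz) rfl ?_⟩
    rw [Functor.map_comp, hχ, IsHomLift.fac' 𝒳.p (f ≫ eqToHom heq) ψ]
    simp [secIncl]
  · refine ⟨⊤, GrothendieckTopology.top_mem _ _, fun {V} f _ => ?_⟩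
    obtain ⟨z, φ, hφ⟩ := (isFibGrpd_secCat σ h𝒳).exists_lift (x := y) f
    refine ⟨z, φ, φ ≫ InducedCategory.homMk b, hφ, ?_, rfl⟩
    have hb' := @IsHomLift.fac' _ _ _ _ 𝒳.p _ _ _ _ _ _ hb
    have hcod : (secCat σ).p.obj y' = (secCat σ).p.obj y := @IsHomLift.codomain_eq _ _ _ _ 𝒳.p _ _ _ _ _ _ hb
    refine IsHomLift.of_fac' _ _ _ (@IsHomLift.domain_eq _ _ _ _ (secCat σ).p _ _ _ _ _ _ hφ) hcod ?_
    rw [Functor.map_comp, @IsHomLift.fac' _ _ _ _ (secCat σ).p _ _ _ _ _ _ hφ]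
    show _ ≫ 𝒳.p.map b = _
    rw [hb']
    simp

variable (h𝒳 : FibCat.IsFibGrpd 𝒳.p) (hπ : TwSh.IsBandedGerbe (QuotSh.J Scheme.fppfPrecoverage S) π ι)
  (e : BasedFunctor.comp σ π ≅ BasedFunctor.id (AlgSt.ofSch X))
include h𝒳 hπ e

/-- Every morphism between values of the section is an element of the band followed by a value. -/
theorem exists_decomp {y' y : (AlgSt.ofSch X).obj} (m : σ.obj y' ⟶ σ.obj y) :
    ∃ (ψ : y' ⟶ y) (c : A.obj (op (𝒳.p.obj (σ.obj y')))), (ι.hom (σ.obj y') c).hom.1 ≫ σ.map ψ = m := by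
  let ψ := (StFib.isoApp e y').inv ≫ π.map m ≫ (StFib.isoApp e y).hom
  have hp : 𝒳.p.map (σ.map ψ) = 𝒳.p.map m := by
    obtain ⟨h₁, e₁⟩ := StFib.vert_isoApp_inv e y'
    obtain ⟨h₂, e₂⟩ := StFib.vert_isoApp e y
    rw [StFib.w_map]
    simp only [ψ, Functor.map_comp, StFib.w_map]
    erw [e₁, e₂]
    simp
    erw [show (π.map m).hom = _ from StFib.w_map π m]
    simp
  obtain ⟨c, hc⟩ := exists_band h𝒳 (ofSch_fib (X := X)) hπ m (σ.map ψ) (map_eq_of_p hp.symm)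
  exact ⟨ψ, c, hc⟩

theorem decomp_unique {y' y : (AlgSt.ofSch X).obj} {ψ ψ' : y' ⟶ y}
    {c c' : A.obj (op (𝒳.p.obj (σ.obj y')))}
    (h : (ι.hom (σ.obj y') c).hom.1 ≫ σ.map ψ = (ι.hom (σ.obj y') c').hom.1 ≫ σ.map ψ') : c = c' := by
  have hp := congrArg 𝒳.p.map h
  rw [Functor.map_comp, Functor.map_comp, TwSh.map_autO_hom, TwSh.map_autO_hom, Category.id_comp,
    Category.id_comp, StFib.w_map, StFib.w_map] at hp
  have hψ : ψ = ψ' := ofSch_map_eq (by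
    rwa [cancel_epi, cancel_mono] at hp)
  subst hψ
  have := StFib.grpd_cancel h𝒳 (σ.map ψ) h (by rw [TwSh.map_autO_hom, TwSh.map_autO_hom])
  exact (hπ.2 _).1 (Aut.ext (Subtype.ext this))

variable (χ : A ⟶ TwSh.GmPsh S)

/-- The inverse of the character of the band component of a morphism between values of the section. -/
def secCocycle : Cocycle (secCat σ) where
  val {y' y} m :=
    (TwSh.charUnit χ (σ.obj y') (exists_decomp σ h𝒳 hπ e m.hom).choose_spec.choose)⁻¹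
  map_id y := by
    obtain hc := (exists_decomp σ h𝒳 hπ e (𝟙 (σ.obj y))).choose_spec.choose_spec
    have : (exists_decomp σ h𝒳 hπ e (𝟙 (σ.obj y))).choose_spec.choose = 1 :=
      decomp_unique σ h𝒳 hπ e (ψ' := 𝟙 (show (AlgSt.ofSch X).obj from y)) (hc.trans (by
        rw [map_one]
        erw [σ.toFunctor.map_id]
        exact (Category.comp_id _).symm))
    show (TwSh.charUnit χ (σ.obj y) (exists_decomp σ h𝒳 hπ e (𝟙 (σ.obj y))).choose_spec.choose)⁻¹ = 1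
    rw [this]
    exact inv_eq_one.2 (map_one (χ.app (op (𝒳.p.obj (σ.obj y)))).hom)
  map_comp {y'' y' y} m' m := by
    set ψ' := (exists_decomp σ h𝒳 hπ e m'.hom).choose
    set c' := (exists_decomp σ h𝒳 hπ e m'.hom).choose_spec.choose
    have hc' : (ι.hom (σ.obj y'') c').hom.1 ≫ σ.map ψ' = m'.hom :=
      (exists_decomp σ h𝒳 hπ e m'.hom).choose_spec.choose_spec
    set ψ := (exists_decomp σ h𝒳 hπ e m.hom).choose
    set c := (exists_decomp σ h𝒳 hπ e m.hom).choose_spec.choose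
    have hc : (ι.hom (σ.obj y') c).hom.1 ≫ σ.map ψ = m.hom :=
      (exists_decomp σ h𝒳 hπ e m.hom).choose_spec.choose_spec
    have key : (ι.hom (σ.obj y'') (A.map (𝒳.p.map (σ.map ψ')).op c * c')).hom.1 ≫ σ.map (ψ' ≫ ψ) =
        (m' ≫ m).hom := by
      show _ = m'.hom ≫ m.hom
      rw [map_mul, ← hc', ← hc, σ.toFunctor.map_comp]
      show ((ι.hom _ c').hom.1 ≫ (ι.hom _ (A.map (𝒳.p.map (σ.map ψ')).op c)).hom.1) ≫ σ.map ψ' ≫ σ.map ψ = _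
      simp only [Category.assoc]
      rw [← Category.assoc _ (σ.map ψ'), ι.natural (σ.map ψ') c]
      simp only [Category.assoc]
    have heq := decomp_unique σ h𝒳 hπ e
      ((exists_decomp σ h𝒳 hπ e (m' ≫ m).hom).choose_spec.choose_spec.trans key.symm)
    show ((TwSh.charUnit χ (σ.obj y'') (exists_decomp σ h𝒳 hπ e (m' ≫ m).hom).choose_spec.choose)⁻¹).val =
      ((TwSh.charUnit χ (σ.obj y'') c')⁻¹).val *
        (StMod.bmap 𝒳 m'.hom).appTop ((TwSh.charUnit χ (σ.obj y') c)⁻¹).val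
    rw [heq]
    have hp : 𝒳.p.map (σ.map ψ') = 𝒳.p.map m'.hom := by
      rw [← hc', Functor.map_comp, TwSh.map_autO_hom, Category.id_comp]
    have hmul : TwSh.charUnit χ (σ.obj y'') (A.map (𝒳.p.map (σ.map ψ')).op c * c') =
        Units.map (StMod.bmap 𝒳 m'.hom).appTop.hom.toMonoidHom (TwSh.charUnit χ (σ.obj y') c) *
          TwSh.charUnit χ (σ.obj y'') c' := by
      refine (map_mul (χ.app (op (𝒳.p.obj (σ.obj y'')))).hom _ _).trans ?_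
      rw [hp]
      exact congrArg (· * _)
        (congrArg (fun f => (ConcreteCategory.hom f) c) (χ.naturality (𝒳.p.map m'.hom).op))
    rw [hmul, mul_inv, mul_comm, Units.val_mul, ← map_inv]
    rfl

theorem secCocycle_val {y' y : (AlgSt.ofSch X).obj} (m : (secFun σ).obj y' ⟶ (secFun σ).obj y) (ψ : y' ⟶ y)
    (c : A.obj (op (𝒳.p.obj (σ.obj y')))) (h : (ι.hom (σ.obj y') c).hom.1 ≫ σ.map ψ = m.hom) :
    (secCocycle σ h𝒳 hπ e χ).val m = (TwSh.charUnit χ (σ.obj y') c)⁻¹ := by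
  rw [← decomp_unique σ h𝒳 hπ e
    ((exists_decomp σ h𝒳 hπ e m.hom).choose_spec.choose_spec.trans h.symm)]
  rfl

omit e in
/-- On a twisted module an element of the band followed by a morphism acts by the character. -/
theorem pb_band_comp {d : ℤ} {F : StMod.Mod 𝒳} (hF : TwSh.IsTwisted F ι χ d) {x' x : 𝒳.obj}
    (c : A.obj (op (𝒳.p.obj x'))) (b : x' ⟶ x) {U : (StMod.sch 𝒳 x).Opens}
    (V : (StMod.sch 𝒳 x').Opens) (ha : V ≤ StMod.bmap 𝒳 ((ι.hom x' c).hom.1 ≫ b) ⁻¹ᵁ U)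
    (hb : V ≤ StMod.bmap 𝒳 b ⁻¹ᵁ U) (s : Γ(F.obj x, U)) :
    pb F ((ι.hom x' c).hom.1 ≫ b) V ha s =
      TwSh.resTop (StMod.sch 𝒳 x') V ((TwSh.charUnit χ x' c ^ d)⁻¹).val • pb F b V hb s := by
  obtain ⟨c', hc', hs⟩ := exists_pb_eq_smul h𝒳 (ofSch_fib (X := X)) hπ hF ((ι.hom x' c).hom.1 ≫ b) b (by
    rw [π.toFunctor.map_comp]
    exact (congrArg (fun m => m ≫ π.map b) (TwSh.IsBandedGerbe.map_hom_eq_id π hπ x' c)).trans (Category.id_comp _))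
  have h2 := StFib.grpd_cancel h𝒳 b hc' (by rw [TwSh.map_autO_hom, TwSh.map_autO_hom])
  obtain rfl : c' = c := (hπ.2 _).1 (Aut.ext (Subtype.ext h2))
  exact hs V ha hb s

end Sec

end Groth.Agent.StDesc
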