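import Groth.Agent.StDesc.PushGlue
import Groth.Agent.StDesc.BC
import Groth.Agent.InjMod.SkyCofree

/-!
The inverse image of the pushforward of an invariant module is the module itself.
-/

set_option autoImplicit false
set_option linter.style.haveILetI false
set_option linter.unusedSectionVars false
set_option backward.isDefEq.respectTransparency false
set_option backward.isDefEq.respectTransparency.types false

universe u

open CategoryTheory CategoryTheory.Limits AlgebraicGeometry TopologicalSpace Opposite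
open Groth.Agent.QCoh

noncomputable section

namespace Groth.Agent.StDesc

theorem exists_cast_iso {X T : Scheme.{u}} (h : X = T) (g : T ⟶ X) (hg : g = eqToHom h.symm)
    {M : X.Modules} {N : T.Modules} (E : M ⟶ (Scheme.Modules.pushforward g).obj N)
    (hE : ∀ U, Function.Bijective (E.app U)) : IsIso E := by
  exact InjMod.isIso_of_basis E Set.univ
    (Opens.isBasis_iff_nbhd.2 fun {U x} hx => ⟨U, trivial, hx, le_rfl⟩) fun U _ => hE U

/-- An isomorphism onto a pushforward along a cast, as an isomorphism from the cast module. -/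
def castIso {X T : Scheme.{u}} (h : X = T) (g : T ⟶ X) (hg : g = eqToHom h.symm)
    {M : X.Modules} {N : T.Modules} (E : M ⟶ (Scheme.Modules.pushforward g).obj N) [IsIso E] :
    StMod.castMod h M ≅ N := by
  subst h
  obtain rfl : g = 𝟙 X := hg
  exact asIso E ≪≫ (Scheme.Modules.pushforwardId X).app N

theorem castIso_comm {X X' T T' : Scheme.{u}} (hX : X = T) (hX' : X' = T') {g₁ : X' ⟶ X} {g : T' ⟶ T}
    (hg : g₁ ≫ eqToHom hX = eqToHom hX' ≫ g) (b : T ⟶ X) (hb : b = eqToHom hX.symm) (b' : T' ⟶ X')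
    (hb' : b' = eqToHom hX'.symm) {M : X.Modules} {M' : X'.Modules} {N : T.Modules} {N' : T'.Modules}
    (E : M ⟶ (Scheme.Modules.pushforward b).obj N) (E' : M' ⟶ (Scheme.Modules.pushforward b').obj N')
    [IsIso E] [IsIso E'] (m : M ⟶ (Scheme.Modules.pushforward g₁).obj M')
    (n : N ⟶ (Scheme.Modules.pushforward g).obj N')
    (hc : ∀ (U : X.Opens) (h : b' ⁻¹ᵁ (g₁ ⁻¹ᵁ U) = g ⁻¹ᵁ (b ⁻¹ᵁ U)) (s : Γ(M, U)),
      res N' h.le (n.app (b ⁻¹ᵁ U) (E.app U s)) = E'.app (g₁ ⁻¹ᵁ U) (m.app U s)) :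
    StMod.castMap hX hX' hg m ≫ (Scheme.Modules.pushforward g).map (castIso hX' b' hb' E').hom =
      (castIso hX b hb E).hom ≫ n := by
  subst hX hX'
  obtain rfl : b = 𝟙 X := hb
  obtain rfl : b' = 𝟙 X' := hb'
  obtain rfl : g₁ = g := by simpa using hg
  rw [StMod.castMap_rfl, StMod.pushforwardCongr_hom_app_self, Category.comp_id]
  apply Scheme.Modules.hom_ext
  intro U
  refine ConcreteCategory.hom_ext _ _ fun s => ?_
  exact ((QCoh.res_self N' le_rfl _).symm.trans (hc U rfl s)).symm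

variable {S : Scheme.{u}} {𝒳 𝒴 : AlgSt.Cat S} {π : 𝒳 ⥤ᵇ 𝒴} {F : StMod.Mod 𝒳} [HasPush π F]

theorem bO_one (x : 𝒳.obj) : bO π (𝟙 (π.obj x)) = eqToHom (StMod.sch_obj_eq π x).symm := by
  simp [bO, StMod.baseOver]

/-- Evaluation of the pushforward on an object of the source. -/
def evMap (π : 𝒳 ⥤ᵇ 𝒴) (F : StMod.Mod 𝒳) [HasPush π F] (x : 𝒳.obj) :
    (push π F).obj (π.obj x) ⟶ (Scheme.Modules.pushforward (bO π (𝟙 (π.obj x)))).obj (F.obj x) :=
  ⟨PresheafOfModules.homMk
    { app := fun U => AddCommGrpCat.ofHom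
        (show Γ((push π F).obj (π.obj x), U.unop) →+ Γ(F.obj x, bO π (𝟙 (π.obj x)) ⁻¹ᵁ U.unop) from
          AddMonoidHom.mk' (fun s => (secFam s).val x (𝟙 (π.obj x)) _ le_rfl) fun a b => by
            rw [map_add, Fam.add_val])
      naturality := fun {U V} i => by
        refine ConcreteCategory.hom_ext _ _ fun (s : Γ((push π F).obj (π.obj x), U.unop)) => ?_
        show (secFam (res ((push π F).obj (π.obj x)) (leOfHom i.unop) s)).val x (𝟙 (π.obj x))
            (bO π (𝟙 (π.obj x)) ⁻¹ᵁ V.unop) le_rfl =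
          res (F.obj x) ((bO π (𝟙 (π.obj x))).preimage_mono (leOfHom i.unop))
            ((secFam s).val x (𝟙 (π.obj x)) (bO π (𝟙 (π.obj x)) ⁻¹ᵁ U.unop) le_rfl)
        erw [secFam_res]
        rw [Fam.restr_val, Fam.res_val] }
    (fun U r (s : Γ((push π F).obj (π.obj x), U.unop)) => by
      show (secFam ((show Γ(StMod.sch 𝒴 (π.obj x), U.unop) from r) • s)).val x (𝟙 (π.obj x))
          (bO π (𝟙 (π.obj x)) ⁻¹ᵁ U.unop) le_rfl =
        (bO π (𝟙 (π.obj x))).app U.unop r •
          (secFam s).val x (𝟙 (π.obj x)) (bO π (𝟙 (π.obj x)) ⁻¹ᵁ U.unop) le_rfl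
      erw [map_smul, Fam.smul_val]
      rw [← Scheme.Hom.app_eq_appLE])⟩

theorem evMap_app (x : 𝒳.obj) (U : (StMod.sch 𝒴 (π.obj x)).Opens) (s : Γ((push π F).obj (π.obj x), U)) :
    (evMap π F x).app U s = (secFam s).val x (𝟙 _) _ le_rfl := rfl

/-- The inverse image of the pushforward of an invariant quasi-coherent module is the module. -/
theorem nonempty_comap_push_iso (L : LocEquiv π) (hF : StMod.isQCoh 𝒳 F) (hI : Invariant π F) :
    Nonempty (StMod.Mod.comap π (push π F) ≅ F) := by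
  have hE : ∀ x, IsIso (evMap π F x) := fun x =>
    exists_cast_iso (StMod.sch_obj_eq π x) _ (bO_one x) _ fun U => by
      have := (bijective_ev L hF hI (ξ := x) U).comp (secFam (π := π) (F := F)).bijective
      exact this
  let i : ∀ x, (StMod.Mod.comap π (push π F)).obj x ≅ F.obj x := fun x =>
    haveI := hE x
    castIso (StMod.sch_obj_eq π x) _ (bO_one x) (evMap π F x)
  let u : StMod.Mod.comap π (push π F) ⟶ F :=
    { app := fun x => (i x).hom
      comm := fun {x' x} φ g hg => by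
        subst hg
        haveI := hE x
        haveI := hE x'
        refine castIso_comm _ _ _ _ (bO_one x) _ (bO_one x') (evMap π F x) (evMap π F x') _ _
          fun U h s => ?_
        rw [evMap_app, evMap_app]
        have hp : secFam (U := StMod.bmap 𝒴 (π.map φ) ⁻¹ᵁ U) (((push π F).map (π.map φ) rfl).app U s) =
            Fam.pull (π.map φ) le_rfl (secFam s) := LinearEquiv.apply_symm_apply _ _
        erw [hp]
        rw [Fam.pull_val]
        have hV : bO π (𝟙 (π.obj x')) ⁻¹ᵁ (StMod.bmap 𝒴 (π.map φ) ⁻¹ᵁ U) ≤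
            bO π (π.map φ ≫ 𝟙 (π.obj x)) ⁻¹ᵁ U := by
          rw [bO_map]; exact h.le
        rw [Fam.val_congr (secFam s) x' ((Category.id_comp (π.map φ)).trans (Category.comp_id (π.map φ)).symm)]
        exact Fam.pb_val (secFam s) φ (𝟙 (π.obj x)) _ le_rfl hV h.le }
  have hv : ∀ {x' x : 𝒳.obj} (φ : x' ⟶ x) (g : StMod.sch 𝒳 x' ⟶ StMod.sch 𝒳 x)
      (hg : StMod.bmap 𝒳 φ = g),
      F.map φ hg ≫ (Scheme.Modules.pushforward g).map (i x').inv =
        (i x).inv ≫ (StMod.Mod.comap π (push π F)).map φ hg := by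
    intro x' x φ g hg
    rw [← cancel_epi (i x).hom, Iso.hom_inv_id_assoc, ← Category.assoc]
    erw [← u.comm φ hg]
    rw [Category.assoc, ← Functor.map_comp]
    simp [u]
  let v : F ⟶ StMod.Mod.comap π (push π F) :=
    { app := fun x => (i x).inv
      comm := fun {_ _} φ {g} hg => hv φ g hg }
  exact ⟨{
    hom := u
    inv := v
    hom_inv_id := StMod.Mod.hom_ext fun x => (i x).hom_inv_id
    inv_hom_id := StMod.Mod.hom_ext fun x => (i x).inv_hom_id }⟩

end Groth.Agent.StDesc
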